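import Cfsg.Agent.H884.ElRows_m3
import Mathlib.FieldTheory.Finite.Basic
import Cfsg.Agent.H781.Cov9.Perm_m3
import Cfsg.Agent.LieClassical.OrthFinite
import Cfsg.Agent.H951.Lin
import Cfsg.Agent.H884.ElO8
import Cfsg.Agent.H587.KB8.Geo
import Cfsg.Agent.H884.OmegaGL
import Cfsg.Agent.H16.PSp4.Bridge
import Cfsg.Agent.H948.UMain
import Cfsg.Agent.H956.UnitSim
import Cfsg.Agent.H510.CS.Irr_m3
import Cfsg.Agent.H953.Sympl
import Cfsg.Agent.H914.Uni
import Cfsg.Agent.H905.SLBasic
import Cfsg.Agent.S0242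
import Cfsg.Agent.LieClassical.SympCount
import Mathlib.LinearAlgebra.Matrix.GeneralLinearGroup.Card
import Cfsg.Agent.H386.Rg.AlphaA_m3
import Cfsg.Agent.H193.Dg.Orth
import Cfsg.Agent.H383.Cov.Parity_m3
import Cfsg.Agent.FastGrp
import Cfsg.Agent.Prune
set_option linter.all false

section
prune_inst 0x7f00000000000000000000000000000000000000000000000000000000000000000000000000000000000000000000000000000000000000000000000000000000000000000000000000000000000000003fffffffffffffffffffffffffffaeffbdffffffff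

section
prune_inst 0xfde9fbbbf9fddfffff7ff7f6ffcdfc3b919fffa4dffd4bbfea29dfabdfb31809c5f3ad8df000fe1ef7c23418a87843f9ffeb3fe26bdc7ffffd5ff45ffbee1ff5f7bd0c519ca8b40fbe6ffe83f0778e7f000000000000000000000000000000000200000000

-- part: H449/Reg/Par
section
prune_inst 0x2140440060000000000000800100000040000020000000000820000000080000a0400000060000000000100008000020004c00804000000000000000000600000000000000040000000000000000000000000000000000000000000000010000000000000
set_option linter.all false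
open scoped Cfsg.Agent.FastGrp

/-!
# S3691: no quadratic field commutes with isometries of two different parities (helper449)

* `no_quadratic_parity` : abstract form
* `no_field2` : a group of isometries of dimension `j`, of order divisible by `r_j` and `r_k`, `j`, `k` even, `j / 2`, `k / 2` of
  different parity, `j < 2 k`, normalises no field of matrices of degree two.
-/

set_option autoImplicit false

namespace Cfsg.Agent.H449.Reg

open Module QuadraticMap Cfsg.Geo Cfsg.Agent.LieClassical.OrthCore Cfsg.Agent.H955 Cfsg.Agent.H954.TSing Cfsg.Agent.H884.El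
open Cfsg.Agent.H951 (fx cm Inv)
open scoped MatrixGroups Matrix Polynomial

universe u v

section Abs

variable {F : Type u} [Field F] {V : Type v} [AddCommGroup V] [Module F V]
  {Q : QuadraticForm F V} {z J : Module.End F V}

theorem commute_aeval {z J : Module.End F V} (h : ∀ v, J (z v) = z (J v)) (P : F[X]) (v : V) :
    J (Polynomial.aeval z P v) = Polynomial.aeval z P (J v) := by
  have h1 : Commute J z := LinearMap.ext h
  have h2 : Commute J (Polynomial.aeval z P) := by
    induction P using Polynomial.induction_on' with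
    | add p q hp hq => rw [map_add]; exact hp.add_right hq
    | monomial n a =>
      rw [Polynomial.aeval_monomial]
      exact Commute.mul_right (show Commute J (algebraMap F (Module.End F V) a) from (Algebra.commutes a J).symm)
        (h1.pow_right n)
  exact congrArg (fun e : Module.End F V => e v) h2.eq

/-- an endomorphism commuting with `z`, `z` irreducible on `U`, is a polynomial in `z` on `U` -/
theorem exists_poly {U : Submodule F V} (hU : Inv z U) (hirr : ∀ W ≤ U, Inv z W → W = ⊥ ∨ W = U)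
    (hJU : ∀ u ∈ U, J u ∈ U) (hJz : ∀ v, J (z v) = z (J v)) :
    ∃ P : F[X], ∀ u ∈ U, J u = Polynomial.aeval z P u := by
  by_cases h0 : U = ⊥
  · refine ⟨0, fun u hu => ?_⟩
    rw [h0, Submodule.mem_bot] at hu
    rw [hu, map_zero, map_zero]
  obtain ⟨u₀, hu₀, hne⟩ := Submodule.exists_mem_ne_zero_of_ne_bot h0
  let φ : F[X] →ₗ[F] V :=
    { toFun := fun P => Polynomial.aeval z P u₀
      map_add' := fun P R => by rw [map_add]; rfl
      map_smul' := fun a P => by rw [map_smul]; rfl }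
  have hzU : ∀ P : F[X], ∀ u ∈ U, Polynomial.aeval z P u ∈ U := by
    intro P
    induction P using Polynomial.induction_on' with
    | add p q hp hq =>
      intro u hu
      rw [map_add]
      exact U.add_mem (hp u hu) (hq u hu)
    | monomial n a =>
      intro u hu
      rw [Polynomial.aeval_monomial]
      have h1 : (z ^ n) u ∈ U := by
        induction n with
        | zero => exact hu
        | succ n ih => rw [pow_succ']; exact hU _ ih
      exact U.smul_mem a h1
  have hW : LinearMap.range φ = U := by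
    rcases hirr (LinearMap.range φ) (by
      rintro _ ⟨P, rfl⟩
      exact hzU P u₀ hu₀) (by
      rintro _ ⟨P, rfl⟩
      refine ⟨Polynomial.X * P, ?_⟩
      change Polynomial.aeval z (Polynomial.X * P) u₀ = z (Polynomial.aeval z P u₀)
      rw [map_mul, Polynomial.aeval_X]
      rfl) with h | h
    · exfalso
      have h1 : u₀ ∈ LinearMap.range φ := ⟨1, by
        change Polynomial.aeval z 1 u₀ = u₀
        rw [map_one]; rfl⟩
      rw [h, Submodule.mem_bot] at h1
      exact hne h1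
    · exact h
  have hmem : ∀ u ∈ U, ∃ P : F[X], Polynomial.aeval z P u₀ = u := by
    intro u hu
    rw [← hW] at hu
    exact hu
  obtain ⟨P, hP⟩ := hmem _ (hJU _ hu₀)
  refine ⟨P, fun u hu => ?_⟩
  obtain ⟨R, rfl⟩ := hmem u hu
  rw [commute_aeval hJz, ← hP]
  have h1 : Polynomial.aeval z R (Polynomial.aeval z P u₀) = Polynomial.aeval z (R * P) u₀ := by rw [map_mul]; rfl
  have h2 : Polynomial.aeval z P (Polynomial.aeval z R u₀) = Polynomial.aeval z (P * R) u₀ := by rw [map_mul]; rfl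
  rw [h1, h2, mul_comm]

theorem polar_pow_isom (hz : ∀ v, Q (z v) = Q v) (n : ℕ) (u w : V) : polar Q ((z ^ n) u) ((z ^ n) w) = polar Q u w :=
  polar_isom (x := z ^ n) (isom_pow hz n) u w

theorem polar_aeval (hz : ∀ v, Q (z v) = Q v) {z' : Module.End F V} (hzz : z * z' = 1) (hcomm : Commute z z') (P : F[X])
    (u w : V) : polar Q (Polynomial.aeval z P u) w = polar Q u (Polynomial.aeval z' P w) := by
  induction P using Polynomial.induction_on' with
  | add p q hp hq =>
    rw [map_add, map_add]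
    change polar Q (Polynomial.aeval z p u + Polynomial.aeval z q u) w =
      polar Q u (Polynomial.aeval z' p w + Polynomial.aeval z' q w)
    rw [polar_add_left, polar_add_right, hp, hq]
  | monomial n a =>
    rw [Polynomial.aeval_monomial, Polynomial.aeval_monomial]
    change polar Q (a • (z ^ n) u) w = polar Q u (a • (z' ^ n) w)
    rw [polar_smul_left, polar_smul_right]
    congr 1
    have h1 : w = (z ^ n) ((z' ^ n) w) := by
      have : z ^ n * z' ^ n = 1 := by rw [← hcomm.mul_pow, hzz, one_pow]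
      exact (congrArg (fun e : Module.End F V => e w) this).symm
    conv_lhs => rw [h1]
    exact polar_pow_isom hz n u _

theorem aeval_pow_card [Fintype F] (z : Module.End F V) (P : F[X]) (h : ℕ) :
    Polynomial.aeval (z ^ Fintype.card F ^ h) P = (Polynomial.aeval z P) ^ Fintype.card F ^ h := by
  induction h with
  | zero => rw [pow_zero, pow_one, pow_one]
  | succ h ih =>
    rw [pow_succ, pow_mul, pow_mul, ← ih]
    generalize z ^ Fintype.card F ^ h = y
    rw [← map_pow, ← FiniteField.expand_card, Polynomial.expand_aeval]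

/-- the adjoint of `J` on a subspace on which the isometry `z`, `z ^ (q ^ h + 1) = 1`, acts irreducibly -/
theorem adj [Fintype F] {U : Submodule F V} (hz : ∀ v, Q (z v) = Q v) {h : ℕ} (hzh : z ^ (Fintype.card F ^ h + 1) = 1)
    (hU : Inv z U) (hirr : ∀ W ≤ U, Inv z W → W = ⊥ ∨ W = U) (hJU : ∀ u ∈ U, J u ∈ U) (hJz : ∀ v, J (z v) = z (J v))
    {u w : V} (hu : u ∈ U) (hw : w ∈ U) : polar Q (J u) w = polar Q u ((J ^ Fintype.card F ^ h) w) := by
  obtain ⟨P, hP⟩ := exists_poly hU hirr hJU hJz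
  have hc : Commute z (z ^ Fintype.card F ^ h) := (Commute.refl z).pow_right _
  rw [hP u hu, polar_aeval hz (z' := z ^ Fintype.card F ^ h) (by rw [← pow_succ', hzh]) hc, aeval_pow_card]
  have key : ∀ n : ℕ, ∀ w ∈ U, ((Polynomial.aeval z P) ^ n) w = (J ^ n) w ∧ (J ^ n) w ∈ U := by
    intro n
    induction n with
    | zero => intro w hw; exact ⟨rfl, hw⟩
    | succ n ih =>
      intro w hw
      obtain ⟨h1, h2⟩ := ih (J w) (hJU w hw)
      rw [pow_succ, pow_succ]
      refine ⟨?_, h2⟩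
      change ((Polynomial.aeval z P) ^ n) (Polynomial.aeval z P w) = (J ^ n) (J w)
      rw [← hP w hw, h1]
  rw [(key _ w hw).1]

/-- **two parities** -/
theorem no_quadratic_parity [Fintype F] {x y : Module.End F V} {h₁ h₂ : ℕ} {W : Submodule F V}
    (hx : ∀ v, Q (x v) = Q v) (hy : ∀ v, Q (y v) = Q v) (hxh : x ^ (Fintype.card F ^ h₁ + 1) = 1)
    (hyh : y ^ (Fintype.card F ^ h₂ + 1) = 1) (hpar : Odd (h₁ + h₂))
    (hxi : ∀ U : Submodule F V, Inv x U → U = ⊥ ∨ U = ⊤) (hWi : Inv y W)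
    (hyi : ∀ U ≤ W, Inv y U → U = ⊥ ∨ U = W) (hW0 : W ≠ ⊥) (hWn : Nondeg (res Q W))
    (hJx : ∀ v, J (x v) = x (J v)) (hJy : ∀ v, J (y v) = y (J v)) (hJW : ∀ w ∈ W, J w ∈ W)
    (hJ : J ^ Fintype.card F ^ 2 = J) (hinj : ∀ w, (J ^ Fintype.card F) w = J w → w = 0) : False := by
  -- powers of `J`
  have hev : ∀ i : ℕ, J ^ Fintype.card F ^ (2 * i) = J := by
    intro i
    induction i with
    | zero => rw [mul_zero, pow_zero, pow_one]
    | succ i ih => rw [show 2 * (i + 1) = 2 * i + 2 by ring, pow_add, pow_mul, ih, hJ]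
  have hod : ∀ i : ℕ, J ^ Fintype.card F ^ (2 * i + 1) = J ^ Fintype.card F := by
    intro i
    rw [pow_succ, pow_mul, hev]
  have hpw : ∀ n : ℕ, ∀ w ∈ W, (J ^ n) w ∈ W := by
    intro n
    induction n with
    | zero => intro w hw; exact hw
    | succ n ih => intro w hw; rw [pow_succ']; exact hJW _ (ih w hw)
  have h1 : ∀ u ∈ W, ∀ w ∈ W, polar Q u ((J ^ Fintype.card F ^ h₁) w) = polar Q u ((J ^ Fintype.card F ^ h₂) w) := by
    intro u hu w hw
    rw [← adj (J := J) hx hxh (U := ⊤) (fun _ _ => trivial) (fun U _ hU => hxi U hU) (fun _ _ => trivial) hJx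
      (Submodule.mem_top (x := u)) (Submodule.mem_top (x := w)), adj (J := J) hy hyh hWi hyi hJW hJy hu hw]
  have h2 : ∀ u ∈ W, ∀ w ∈ W, polar Q u ((J ^ Fintype.card F) w - J w) = 0 := by
    intro u hu w hw
    rw [polar_sub_right]
    rcases Nat.even_or_odd h₁ with h | h
    · obtain ⟨i, hi⟩ := h
      have h' : Odd h₂ := by
        rcases Nat.even_or_odd h₂ with h3 | h3
        · exfalso
          exact (Nat.not_odd_iff_even.2 (Even.add ⟨i, hi⟩ h3)) hpar
        · exact h3
      obtain ⟨j, hj⟩ := h'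
      have h3 := h1 u hu w hw
      rw [hj, hod, hi, ← two_mul, hev] at h3
      rw [← h3, sub_self]
    · obtain ⟨i, hi⟩ := h
      have h' : Even h₂ := by
        rcases Nat.even_or_odd h₂ with h3 | h3
        · exact h3
        · exfalso
          exact (Nat.not_odd_iff_even.2 (Odd.add_odd ⟨i, hi⟩ h3)) hpar
      obtain ⟨j, hj⟩ := h'
      have h3 := h1 u hu w hw
      rw [hi, hod, hj, ← two_mul, hev] at h3
      rw [h3, sub_self]
  obtain ⟨w, hw, hw0⟩ := Submodule.exists_mem_ne_zero_of_ne_bot hW0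
  apply hw0
  apply hinj
  have h3 : (⟨(J ^ Fintype.card F) w - J w, W.sub_mem (hpw _ w hw) (hJW w hw)⟩ : W) = 0 := by
    apply hWn
    intro u
    rw [polar_res, polar_comm]
    exact h2 u u.2 w hw
  exact sub_eq_zero.1 (congrArg Subtype.val h3)

end Abs

section Mat

variable {ι : Type} [Fintype ι] [DecidableEq ι] {F : Type u} [Field F] [Fintype F] {Q : QuadraticForm F (ι → F)}
  {H : Subgroup (GL ι F)} {j k r s : ℕ}

/-- a primitive element of a quadratic field of matrices -/
theorem exists_prim [Nonempty ι] {K : Subalgebra F (Matrix ι ι F)} (hK : IsFieldSubalgebra 2 K) :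
    ∃ J ∈ K, J ^ Fintype.card F ^ 2 = J ∧ ∀ w : ι → F, (J ^ Fintype.card F) *ᵥ w = J *ᵥ w → w = 0 := by
  let _ : Field K := (H912.isField_of_fieldSub hK).toField
  have hfd : Module.Finite F K := inferInstance
  have hKfin : Finite K := Module.finite_of_finite F
  have hcard : Nat.card K = Fintype.card F ^ 2 := by
    rw [Module.natCard_eq_pow_finrank (K := F), hK.finrank_eq, Nat.card_eq_fintype_card]
  have hq : 1 < Fintype.card F := Fintype.one_lt_card
  obtain ⟨J, hJ⟩ := IsCyclic.exists_generator (α := Kˣ)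
  have ho : orderOf J = Fintype.card F ^ 2 - 1 := by
    rw [← hcard, ← Nat.card_units, ← Nat.card_zpowers]
    have : Subgroup.zpowers J = ⊤ := by
      rw [eq_top_iff]; intro z _; exact hJ z
    rw [this, Subgroup.card_top]
  have hq2 : 1 ≤ Fintype.card F ^ 2 := Nat.one_le_pow _ _ (by omega)
  refine ⟨((J : K) : Matrix ι ι F), (J : K).2, ?_, ?_⟩
  · have h1 : (J : K) ^ Fintype.card F ^ 2 = J := by
      have h2 : J ^ (Fintype.card F ^ 2) = J := by
        conv_lhs => rw [← Nat.sub_add_cancel hq2]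
        rw [pow_succ, ← ho, pow_orderOf_eq_one, one_mul]
      exact congrArg Units.val h2
    exact congrArg Subtype.val h1
  · intro w hw
    set a : K := (J : K) ^ Fintype.card F - J with ha
    have ha0 : a ≠ 0 := by
      intro h0
      have h1 : (J : K) ^ Fintype.card F = J := sub_eq_zero.1 h0
      have h2 : J ^ (Fintype.card F - 1) = 1 := by
        have h3 : J ^ Fintype.card F = J := Units.ext h1
        have h4 : J ^ (Fintype.card F - 1) * J = 1 * J := by
          rw [← pow_succ, Nat.sub_add_cancel hq.le, h3, one_mul]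
        exact mul_right_cancel h4
      have h3 := orderOf_dvd_of_pow_eq_one h2
      rw [ho] at h3
      have h4 := Nat.le_of_dvd (by omega) h3
      have h5 : Fintype.card F < Fintype.card F ^ 2 := by nlinarith only [hq]
      omega
    have h1 : (a⁻¹ * a : K) = 1 := inv_mul_cancel₀ ha0
    have h2 : ((a⁻¹ : K) : Matrix ι ι F) * ((a : K) : Matrix ι ι F) = 1 := congrArg Subtype.val h1
    have h3 : ((a : K) : Matrix ι ι F) *ᵥ w = 0 := by
      have h4 : ((a : K) : Matrix ι ι F) = ((J : K) : Matrix ι ι F) ^ Fintype.card F - ((J : K) : Matrix ι ι F) := rfl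
      rw [h4, Matrix.sub_mulVec, hw, sub_self]
    rw [← Matrix.one_mulVec w, ← h2, ← Matrix.mulVec_mulVec, h3, Matrix.mulVec_zero]

/-- **no quadratic field for two parities** -/
theorem no_field2 (hQ : Nondeg Q) (hH : H ≤ Cfsg.isometryGroup F (⇑Q)) (hr : PP (Nat.card F) j r) (hs : PP (Nat.card F) k s)
    (hn : Fintype.card ι = j) (hj : Even j) (hk : Even k) (hj2 : 2 ≤ j) (hjk : j < 2 * k) (hpar : Odd (j / 2 + k / 2))
    (hrH : r ∣ Nat.card H) (hsH : s ∣ Nat.card H)
    {K : Subalgebra F (Matrix ι ι F)} (hK : IsFieldSubalgebra 2 K) (hHK : H ≤ subalgebraNormalizer K) : False := by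
  have hq := one_lt_q F
  have hcf : Fintype.card F = Nat.card F := (Nat.card_eq_fintype_card).symm
  have hne : Nonempty ι := Fintype.card_pos_iff.1 (by omega)
  obtain ⟨g, hgH, hg, hgr, hg1⟩ := exists_elt hH hr (by omega) hrH
  obtain ⟨h, hhH, hh, hhs, hh1⟩ := exists_elt hH hs (by omega) hsH
  have hfin : finrank F (ι → F) = j := by rw [Module.finrank_fintype_fun_eq_card, hn]
  obtain ⟨hcg, -⟩ := hg.even_case hQ (lin_ne_one hg1) hr hj (by rw [hfin]; omega)
  obtain ⟨hch, -⟩ := hh.even_case hQ (lin_ne_one hh1) hs hk (by rw [hfin]; omega)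
  have hcgt : cm (lin g) = ⊤ := Submodule.eq_top_of_finrank_eq (by rw [hcg, hfin])
  obtain ⟨J, hJK, hJ2, hJinj⟩ := exists_prim hK
  have hJg := comm_field Nat.prime_two hK (hHK hgH) hr.prime (by have := hg.two_lt; omega) hgr J hJK
  have hJh := comm_field Nat.prime_two hK (hHK hhH) hs.prime (by have := hh.two_lt; omega) hhs J hJK
  have hcomm : ∀ (a : GL ι F), (a : Matrix ι ι F) * J = J * (a : Matrix ι ι F) →
      ∀ v, Matrix.toLin' J (lin a v) = lin a (Matrix.toLin' J v) := by
    intro a ha v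
    rw [lin, Matrix.toLin'_apply, Matrix.toLin'_apply, Matrix.toLin'_apply, Matrix.toLin'_apply,
      Matrix.mulVec_mulVec, Matrix.mulVec_mulVec, ha]
  have hpw : ∀ n : ℕ, ∀ w, ((Matrix.toLin' J) ^ n) w = (J ^ n) *ᵥ w := by
    intro n w
    rw [← Matrix.toLin'_pow, Matrix.toLin'_apply]
  -- irreducibility
  have hirr : ∀ {x : Module.End F (ι → F)} {e t : ℕ}, Iso Q x t → PP (Nat.card F) e t → finrank F (cm x) = e → 1 ≤ e →
      ∀ U ≤ cm x, Inv x U → U = ⊥ ∨ U = cm x := by
    intro x e t hx ht hce he U hU hUi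
    rcases hx.le_or ht hce hUi with h1 | h1
    · left
      have := (H951.isCompl_fx_cm hx.ne0 hx.pow).inf_eq_bot
      rw [eq_bot_iff, ← this]
      exact le_inf h1 hU
    · exact Or.inr (le_antisymm hU h1)
  have hpow : ∀ {x : Module.End F (ι → F)} {e t : ℕ}, Iso Q x t → PP (Nat.card F) e t → Even e → 1 ≤ e →
      x ^ (Fintype.card F ^ (e / 2) + 1) = 1 := by
    intro x e t hx ht hev he
    have h1 : t ∣ Nat.card F ^ e - 1 := (ht.dvd_iff hq.le e).2 dvd_rfl
    have h2 : ¬ t ∣ Nat.card F ^ (e / 2) - 1 := by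
      rw [ht.dvd_iff hq.le]
      intro h3
      obtain ⟨c, hc⟩ := hev
      have := Nat.le_of_dvd (by omega) h3
      omega
    have h3 : Nat.card F ^ e - 1 = (Nat.card F ^ (e / 2) + 1) * (Nat.card F ^ (e / 2) - 1) := by
      have h4 := Nat.sq_sub_sq (Nat.card F ^ (e / 2)) 1
      rw [one_pow, ← pow_mul, Nat.div_mul_cancel (even_iff_two_dvd.1 hev)] at h4
      exact h4
    rw [h3] at h1
    obtain ⟨c, hc⟩ := (ht.prime.dvd_mul.1 h1).resolve_right h2
    rw [hcf, hc, pow_mul, hx.pow, one_pow]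
  refine no_quadratic_parity (Q := Q) (J := Matrix.toLin' J) (x := lin g) (y := lin h) (W := cm (lin h)) (h₁ := j / 2)
    (h₂ := k / 2) hg.iso hh.iso (hpow hg hr hj (by omega)) (hpow hh hs hk (by omega)) hpar ?_ H951.inv_cm ?_
    (cm_ne_bot (lin_ne_one hh1)) (nondeg_cm hQ hh.iso hh.ne0 hh.pow) (hcomm g hJg) (hcomm h hJh) ?_ ?_ ?_
  · intro U hU
    have := hirr hg hr hcg (by omega) U (by rw [hcgt]; exact le_top) hU
    rwa [hcgt] at this
  · exact hirr hh hs hch (by omega)
  · intro w hw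
    obtain ⟨v, rfl⟩ := hw
    refine ⟨Matrix.toLin' J v, ?_⟩
    rw [LinearMap.sub_apply, LinearMap.sub_apply, map_sub, hcomm h hJh]
    rfl
  · rw [← Matrix.toLin'_pow, hJ2]
  · intro w hw
    rw [hpw, Matrix.toLin'_apply] at hw
    exact hJinj w hw

end Mat

end Cfsg.Agent.H449.Reg
end

-- part: H449/Reg/Types
section
prune_inst 0x21400000202000000000800000001c02e2000020000b04000c42000004802c2300802620b31000000200004440390000000000000000000000000000011800a08000000011240104000007800000000000000000000000000000000000000000000000000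
set_option linter.all false
open scoped Cfsg.Agent.FastGrp

/-!
# S3691: no quadratic field for two parities, any invariant bilinear form (helper449)

* `irr_of_normal` : a normal subgroup of an irreducible group containing an element with a large irreducible block is irreducible
* `no_types` : abstract form
* `no_field2_gen` : `H ≤ GL(ι, F)` irreducible, fixing a nondegenerate bilinear form `B`, of order divisible by `r_j`, `r_k`,
  `j`, `k` even and `> n / 2`, `j / 2`, `k / 2` of different parity: `H` normalises no field of matrices of degree two.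
-/

set_option autoImplicit false

namespace Cfsg.Agent.H449.Reg

open Module Cfsg.Geo Cfsg.Agent.H884.El
open Cfsg.Agent.H951 (fx cm Inv)
open scoped MatrixGroups Matrix Polynomial

universe u v

section Abs

variable {F : Type u} [Field F] {V : Type v} [AddCommGroup V] [Module F V]
  {B : LinearMap.BilinForm F V} {z J : Module.End F V}

theorem bil_pow (hz : ∀ u w, B (z u) (z w) = B u w) (n : ℕ) (u w : V) : B ((z ^ n) u) ((z ^ n) w) = B u w := by
  induction n with
  | zero => rfl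
  | succ n ih =>
    rw [pow_succ']
    change B (z ((z ^ n) u)) (z ((z ^ n) w)) = _
    rw [hz, ih]

theorem bil_aeval (hz : ∀ u w, B (z u) (z w) = B u w) {z' : Module.End F V} (hzz : z * z' = 1) (hcomm : Commute z z')
    (P : F[X]) (u w : V) : B (Polynomial.aeval z P u) w = B u (Polynomial.aeval z' P w) := by
  induction P using Polynomial.induction_on' with
  | add p q hp hq =>
    rw [map_add, map_add]
    change B (Polynomial.aeval z p u + Polynomial.aeval z q u) w =
      B u (Polynomial.aeval z' p w + Polynomial.aeval z' q w)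
    rw [map_add, map_add, LinearMap.add_apply, hp, hq]
  | monomial n a =>
    rw [Polynomial.aeval_monomial, Polynomial.aeval_monomial]
    change B (a • (z ^ n) u) w = B u (a • (z' ^ n) w)
    rw [map_smul, map_smul, LinearMap.smul_apply]
    congr 1
    have h1 : w = (z ^ n) ((z' ^ n) w) := by
      have : z ^ n * z' ^ n = 1 := by rw [← hcomm.mul_pow, hzz, one_pow]
      exact (congrArg (fun e : Module.End F V => e w) this).symm
    conv_lhs => rw [h1]
    exact bil_pow hz n u _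

/-- the adjoint of `J` on a subspace on which the isometry `z`, `z ^ (q ^ h + 1) = 1`, acts irreducibly -/
theorem bil_adj [Fintype F] {U : Submodule F V} (hz : ∀ u w, B (z u) (z w) = B u w) {h : ℕ}
    (hzh : z ^ (Fintype.card F ^ h + 1) = 1)
    (hU : Inv z U) (hirr : ∀ W ≤ U, Inv z W → W = ⊥ ∨ W = U) (hJU : ∀ u ∈ U, J u ∈ U) (hJz : ∀ v, J (z v) = z (J v))
    {u w : V} (hu : u ∈ U) (hw : w ∈ U) : B (J u) w = B u ((J ^ Fintype.card F ^ h) w) := by
  obtain ⟨P, hP⟩ := exists_poly hU hirr hJU hJz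
  have hc : Commute z (z ^ Fintype.card F ^ h) := (Commute.refl z).pow_right _
  rw [hP u hu, bil_aeval hz (z' := z ^ Fintype.card F ^ h) (by rw [← pow_succ', hzh]) hc, aeval_pow_card]
  have key : ∀ n : ℕ, ∀ w ∈ U, ((Polynomial.aeval z P) ^ n) w = (J ^ n) w ∧ (J ^ n) w ∈ U := by
    intro n
    induction n with
    | zero => intro w hw; exact ⟨rfl, hw⟩
    | succ n ih =>
      intro w hw
      obtain ⟨h1, h2⟩ := ih (J w) (hJU w hw)
      rw [pow_succ, pow_succ]
      refine ⟨?_, h2⟩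
      change ((Polynomial.aeval z P) ^ n) (Polynomial.aeval z P w) = (J ^ n) (J w)
      rw [← hP w hw, h1]
  rw [(key _ w hw).1]

/-- **a normal subgroup with a big block** of an irreducible group is irreducible -/
theorem irr_of_normal [FiniteDimensional F V] {H N : Subgroup (V ≃ₗ[F] V)}
    (hirr : ∀ W : Submodule F V, (∀ h ∈ H, ∀ w ∈ W, h w ∈ W) → W = ⊥ ∨ W = ⊤)
    (hN : ∀ h ∈ H, ∀ n ∈ N, h * n * h⁻¹ ∈ N) {x : V ≃ₗ[F] V} (hx : x ∈ N) (hx1 : x ≠ 1)
    (hblk : ∀ W : Submodule F V, (∀ w ∈ W, x w ∈ W) → W ≤ fx (x : Module.End F V) ∨ cm (x : Module.End F V) ≤ W)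
    (hbig : finrank F V < 2 * finrank F (cm (x : Module.End F V))) :
    ∀ W : Submodule F V, (∀ h ∈ N, ∀ w ∈ W, h w ∈ W) → W = ⊥ ∨ W = ⊤ := by
  classical
  by_contra hcon
  push Not at hcon
  obtain ⟨W₀, hW₀, hW₀0, hW₀1⟩ := hcon
  -- a nonzero invariant subspace of least dimension
  have hex : ∃ d : ℕ, ∃ W : Submodule F V, (∀ h ∈ N, ∀ w ∈ W, h w ∈ W) ∧ W ≠ ⊥ ∧ finrank F W = d := ⟨_, W₀, hW₀, hW₀0, rfl⟩
  obtain ⟨W, hW, hW0, hWd⟩ := Nat.find_spec hex
  have hmin : ∀ U : Submodule F V, (∀ h ∈ N, ∀ w ∈ U, h w ∈ U) → U ≠ ⊥ → finrank F W ≤ finrank F U := by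
    intro U hU hU0
    rw [hWd]
    exact Nat.find_min' hex ⟨U, hU, hU0, rfl⟩
  -- conjugates
  have hconj : ∀ h ∈ H, ∀ n ∈ N, ∀ w ∈ W.map (h : V →ₗ[F] V), n w ∈ W.map (h : V →ₗ[F] V) := by
    rintro h hh n hn _ ⟨w, hw, rfl⟩
    have h1 : h⁻¹ * n * h ∈ N := by
      have := hN h⁻¹ (H.inv_mem hh) n hn
      rwa [inv_inv] at this
    refine ⟨(h⁻¹ * n * h) w, hW _ h1 w hw, ?_⟩
    change (h * (h⁻¹ * n * h)) w = (n * h) w
    congr 1
    group
  have hx' : (x : Module.End F V) ≠ 1 := by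
    intro h0
    apply hx1
    apply LinearEquiv.ext
    intro v
    exact congrArg (fun e : Module.End F V => e v) h0
  -- some conjugate contains the block
  obtain ⟨h, hh, hblkh⟩ : ∃ h ∈ H, cm (x : Module.End F V) ≤ W.map (h : V →ₗ[F] V) := by
    by_contra hcon
    push Not at hcon
    have h1 : ∀ h ∈ H, W.map (h : V →ₗ[F] V) ≤ fx (x : Module.End F V) := fun h hh =>
      (hblk _ (hconj h hh x hx)).resolve_right (hcon h hh)
    -- the sum of the conjugates is everything
    have h2 : (⨆ h : H, W.map ((h : V ≃ₗ[F] V) : V →ₗ[F] V)) = ⊤ := by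
      rcases hirr (⨆ h : H, W.map ((h : V ≃ₗ[F] V) : V →ₗ[F] V)) (by
        intro g hg w hw
        have h3 : (⨆ h : H, W.map ((h : V ≃ₗ[F] V) : V →ₗ[F] V)) ≤
            (⨆ h : H, W.map ((h : V ≃ₗ[F] V) : V →ₗ[F] V)).comap (g : V →ₗ[F] V) := by
          refine iSup_le fun h => ?_
          rintro _ ⟨w, hw, rfl⟩
          have h4 := le_iSup (fun h : H => W.map ((h : V ≃ₗ[F] V) : V →ₗ[F] V)) (⟨g, hg⟩ * h)
          exact h4 ⟨w, hw, rfl⟩
        exact h3 hw) with h3 | h3
      · exfalso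
        apply hW0
        rw [eq_bot_iff]
        intro w hw
        have h4 := le_iSup (fun h : H => W.map ((h : V ≃ₗ[F] V) : V →ₗ[F] V)) 1
        rw [h3] at h4
        exact h4 ⟨w, hw, rfl⟩
      · exact h3
    have h3 : fx (x : Module.End F V) = ⊤ := by
      rw [eq_top_iff, ← h2]
      exact iSup_le fun h => h1 h h.2
    apply hx'
    ext v
    have : v ∈ fx (x : Module.End F V) := by rw [h3]; trivial
    rw [H951.mem_fx.1 this]
    rfl
  -- two conjugates coincide
  have hdim : ∀ g : V ≃ₗ[F] V, finrank F ↥(W.map (g : V →ₗ[F] V)) = finrank F W := fun g => LinearEquiv.finrank_map_eq g W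
  have hbigW : finrank F V < 2 * finrank F W := by
    have := Submodule.finrank_mono hblkh
    rw [hdim] at this
    omega
  have hall : ∀ g ∈ H, W.map (g : V →ₗ[F] V) = W := by
    intro g hg
    have h1 : W.map (g : V →ₗ[F] V) ⊓ W ≠ ⊥ := by
      intro h0
      have h2 := Submodule.finrank_sup_add_finrank_inf_eq (W.map (g : V →ₗ[F] V)) W
      rw [h0, finrank_bot, hdim] at h2
      have h3 := Submodule.finrank_le (W.map (g : V →ₗ[F] V) ⊔ W)
      omega
    have h2 := hmin (W.map (g : V →ₗ[F] V) ⊓ W) (fun n hn w hw => ⟨hconj g hg n hn w hw.1, hW n hn w hw.2⟩) h1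
    have h3 : W.map (g : V →ₗ[F] V) ⊓ W = W := Submodule.eq_of_le_of_finrank_le inf_le_right h2
    have h4 : W ≤ W.map (g : V →ₗ[F] V) := inf_eq_right.1 h3
    exact (Submodule.eq_of_le_of_finrank_eq h4 (hdim g).symm).symm
  rcases hirr W (fun g hg w hw => by
    have := hall g hg
    rw [← this]
    exact ⟨w, hw, rfl⟩) with h1 | h1
  · exact hW0 h1
  · have h2 := hmin W₀ hW₀ hW₀0
    rw [h1, finrank_top] at h2
    apply hW₀1
    exact Submodule.eq_top_of_finrank_eq (le_antisymm (Submodule.finrank_le _) h2)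

/-- **two parities, any form** -/
theorem no_types [Fintype F] [FiniteDimensional F V] (hB : B.Nondegenerate) {N : Subgroup (V ≃ₗ[F] V)}
    (hBN : ∀ g ∈ N, ∀ u w, B (g u) (g w) = B u w)
    (hirr : ∀ W : Submodule F V, (∀ h ∈ N, ∀ w ∈ W, h w ∈ W) → W = ⊥ ∨ W = ⊤)
    {x y : V ≃ₗ[F] V} (hx : x ∈ N) (hy : y ∈ N) (hx1 : x ≠ 1) (hy1 : y ≠ 1)
    {h₁ h₂ : ℕ} (hxh : (x : Module.End F V) ^ (Fintype.card F ^ h₁ + 1) = 1)
    (hyh : (y : Module.End F V) ^ (Fintype.card F ^ h₂ + 1) = 1) (hpar : Odd (h₁ + h₂))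
    (hsx : fx (x : Module.End F V) ⊔ cm (x : Module.End F V) = ⊤) (hsy : fx (y : Module.End F V) ⊔ cm (y : Module.End F V) = ⊤)
    (hxi : ∀ U ≤ cm (x : Module.End F V), Inv (x : Module.End F V) U → U = ⊥ ∨ U = cm (x : Module.End F V))
    (hyi : ∀ U ≤ cm (y : Module.End F V), Inv (y : Module.End F V) U → U = ⊥ ∨ U = cm (y : Module.End F V))
    (hJN : ∀ g ∈ N, ∀ v, J (g v) = g (J v))
    (hJ : J ^ Fintype.card F ^ 2 = J) (hinj : ∀ w, (J ^ Fintype.card F) w = J w → w = 0) : False := by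
  -- powers of `J`
  have hev : ∀ i : ℕ, J ^ Fintype.card F ^ (2 * i) = J := by
    intro i
    induction i with
    | zero => rw [mul_zero, pow_zero, pow_one]
    | succ i ih => rw [show 2 * (i + 1) = 2 * i + 2 by ring, pow_add, pow_mul, ih, hJ]
  have hod : ∀ i : ℕ, J ^ Fintype.card F ^ (2 * i + 1) = J ^ Fintype.card F := by
    intro i
    rw [pow_succ, pow_mul, hev]
  -- the left adjoint
  set J' : Module.End F V := B.leftAdjointOfNondegenerate hB J with hJ'
  have hadj : ∀ u w, B (J' u) w = B u (J w) := B.isAdjointPairLeftAdjointOfNondegenerate hB J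
  have hsep : ∀ u, (∀ w, B u w = 0) → u = 0 := fun u hu => by
    have h1 := hB.ker_eq_bot
    have h2 : u ∈ LinearMap.ker B := by
      rw [LinearMap.mem_ker]
      exact LinearMap.ext hu
    rw [h1] at h2
    exact h2
  have hJ'N : ∀ g ∈ N, ∀ v, J' (g v) = g (J' v) := by
    intro g hg v
    rw [← sub_eq_zero]
    apply hsep
    intro w
    rw [map_sub, LinearMap.sub_apply, hadj, sub_eq_zero]
    have e1 : g (g⁻¹ w) = w := by
      change (g * g⁻¹) w = w
      rw [mul_inv_cancel]; rfl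
    have e2 : J w = g (J (g⁻¹ w)) := by rw [← hJN g hg, e1]
    rw [e2, hBN g hg]
    conv_rhs => rw [← e1]
    rw [hBN g hg, hadj]
  -- comparison
  have key : ∀ {a : V ≃ₗ[F] V} {h : ℕ}, a ∈ N → a ≠ 1 → (a : Module.End F V) ^ (Fintype.card F ^ h + 1) = 1 →
      fx (a : Module.End F V) ⊔ cm (a : Module.End F V) = ⊤ →
      (∀ U ≤ cm (a : Module.End F V), Inv (a : Module.End F V) U → U = ⊥ ∨ U = cm (a : Module.End F V)) →
      J' = J ^ Fintype.card F ^ h := by
    intro a h ha ha1 hah hsa hai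
    have hJc : ∀ {L : Module.End F V}, (∀ g ∈ N, ∀ v, L (g v) = g (L v)) →
        ∀ u ∈ cm (a : Module.End F V), L u ∈ cm (a : Module.End F V) := by
      intro L hL u hu
      obtain ⟨v, rfl⟩ := H951.mem_cm.1 hu
      refine H951.mem_cm.2 ⟨L v, ?_⟩
      rw [map_sub]
      change a (L v) - L v = L (a v) - L v
      rw [hL a ha]
    have hpN : ∀ n : ℕ, ∀ g ∈ N, ∀ v, (J ^ n) (g v) = g ((J ^ n) v) := by
      intro n
      induction n with
      | zero => intro g _ v; rfl
      | succ n ih =>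
        intro g hg v
        rw [pow_succ']
        change J ((J ^ n) (g v)) = g (J ((J ^ n) v))
        rw [ih g hg, hJN g hg]
    -- `J' = J ^ N` on the block
    have h1 : ∀ u ∈ cm (a : Module.End F V), J' u = (J ^ Fintype.card F ^ h) u := by
      intro u hu
      rw [← sub_eq_zero]
      apply hsep
      intro w
      have hd : J' u - (J ^ Fintype.card F ^ h) u ∈ cm (a : Module.End F V) :=
        (cm (a : Module.End F V)).sub_mem (hJc hJ'N u hu) (hJc (hpN _) u hu)
      have hw : w ∈ fx (a : Module.End F V) ⊔ cm (a : Module.End F V) := by rw [hsa]; trivial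
      obtain ⟨f, hf, c, hc, rfl⟩ := Submodule.mem_sup.1 hw
      rw [map_add]
      have e1 : B (J' u - (J ^ Fintype.card F ^ h) u) f = 0 := by
        obtain ⟨v, hv⟩ := H951.mem_cm.1 hd
        rw [← hv, map_sub, LinearMap.sub_apply]
        have hf' : a f = f := H951.mem_fx.1 hf
        have e2 := hBN a ha v f
        rw [hf'] at e2
        change B (a v) f - B v f = 0
        rw [e2, sub_self]
      have e2 : B (J' u - (J ^ Fintype.card F ^ h) u) c = 0 := by
        rw [map_sub, LinearMap.sub_apply, hadj, sub_eq_zero]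
        have e3 := bil_adj (B := B.flip) (z := (a : Module.End F V)) (J := J) (h := h) (U := cm (a : Module.End F V))
          (fun u w => hBN a ha w u) hah H951.inv_cm hai (hJc hJN) (hJN a ha) (u := c) (w := u) hc hu
        exact e3
      rw [e1, e2, add_zero]
    -- Schur
    let D : Submodule F V := LinearMap.ker (J' - J ^ Fintype.card F ^ h)
    have hD : D = ⊤ := by
      rcases hirr D (by
        intro g hg w hw
        have h2 : J' w - (J ^ Fintype.card F ^ h) w = 0 := hw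
        change J' (g w) - (J ^ Fintype.card F ^ h) (g w) = 0
        rw [hJ'N g hg, hpN _ g hg, ← map_sub, h2, map_zero]) with h2 | h2
      · exfalso
        have h3 : cm (a : Module.End F V) ≤ D := fun u hu => by
          change J' u - (J ^ Fintype.card F ^ h) u = 0
          rw [h1 u hu, sub_self]
        rw [h2] at h3
        have h4 : cm (a : Module.End F V) = ⊥ := le_bot_iff.1 h3
        have h5 : (a : Module.End F V) - 1 = 0 := LinearMap.range_eq_bot.1 h4
        apply ha1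
        apply LinearEquiv.ext
        intro v
        exact congrArg (fun e : Module.End F V => e v) (sub_eq_zero.1 h5)
      · exact h2
    apply LinearMap.ext
    intro v
    have : v ∈ D := by rw [hD]; trivial
    exact sub_eq_zero.1 this
  have e1 := key hx hx1 hxh hsx hxi
  have e2 := key hy hy1 hyh hsy hyi
  have e3 : J ^ Fintype.card F = J := by
    rw [e1] at e2
    rcases Nat.even_or_odd h₁ with h | h
    · obtain ⟨i, hi⟩ := h
      have h' : Odd h₂ := by
        rcases Nat.even_or_odd h₂ with h3 | h3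
        · exfalso
          exact (Nat.not_odd_iff_even.2 (Even.add ⟨i, hi⟩ h3)) hpar
        · exact h3
      obtain ⟨j, hj⟩ := h'
      rw [hj, hod, hi, ← two_mul, hev] at e2
      exact e2.symm
    · obtain ⟨i, hi⟩ := h
      have h' : Even h₂ := by
        rcases Nat.even_or_odd h₂ with h3 | h3
        · exact h3
        · exfalso
          exact (Nat.not_odd_iff_even.2 (Odd.add_odd ⟨i, hi⟩ h3)) hpar
      obtain ⟨j, hj⟩ := h'
      rw [hi, hod, hj, ← two_mul, hev] at e2
      exact e2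
  apply hx1
  apply LinearEquiv.ext
  intro v
  have h0 : ∀ w : V, w = 0 := fun w => hinj w (by rw [e3])
  rw [h0 (x v), h0 ((1 : V ≃ₗ[F] V) v)]

end Abs

section Mat

variable {ι : Type} [Fintype ι] [DecidableEq ι] {F : Type u} [Field F] [Fintype F]
  {H : Subgroup (GL ι F)} {B : LinearMap.BilinForm F (ι → F)} {j k r s : ℕ}

/-- data of an element of order `r`, `ord_r(q) = e > n / 2` -/
theorem elt_data {x : Module.End F (ι → F)} {e t : ℕ} (ht : PP (Nat.card F) e t) (he : 2 ≤ e) (hn : Fintype.card ι < 2 * e)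
    (hx : x ^ t = 1) (hx1 : x ≠ 1) :
    fx x ⊔ cm x = ⊤ ∧ finrank F (cm x) = e ∧ (∀ W : Submodule F (ι → F), Inv x W → W ≤ fx x ∨ cm x ≤ W) ∧
      ∀ U ≤ cm x, Inv x U → U = ⊥ ∨ U = cm x := by
  have := Fact.mk ht.prime
  have h0 : (t : F) ≠ 0 := ht.ne0 (by omega)
  have hc := H951.isCompl_fx_cm h0 hx
  have hdvd : ∀ W : Submodule F (ι → F), Inv x W → e ∣ finrank F ↥(W ⊓ cm x) := by
    intro W hW
    rw [← ord_eq ht]
    exact H951.ord_dvd_finrank hx (hW.inf H951.inv_cm) (H951.inf_fx_of_le_cm h0 hx inf_le_right)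
  have hfin : finrank F (ι → F) = Fintype.card ι := Module.finrank_fintype_fun_eq_card F
  have hcm : finrank F (cm x) = e := by
    have h1 := hdvd ⊤ H951.inv_top
    rw [top_inf_eq] at h1
    have h2 : finrank F (cm x) ≤ finrank F (ι → F) := Submodule.finrank_le _
    have h3 : finrank F (cm x) ≠ 0 := fun h => cm_ne_bot hx1 (Submodule.finrank_eq_zero.1 h)
    obtain ⟨A, hA⟩ := h1
    have hA1 : A = 1 := by
      have h4 : A < 2 := by
        by_contra hcon
        push Not at hcon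
        have := Nat.mul_le_mul_left e hcon
        omega
      have h5 : A ≠ 0 := by rintro rfl; omega
      omega
    rw [hA, hA1, mul_one]
  have hor : ∀ W : Submodule F (ι → F), Inv x W → W ≤ fx x ∨ cm x ≤ W := by
    intro W hW
    have h1 := hdvd W hW
    have h2 : finrank F ↥(W ⊓ cm x) ≤ finrank F (cm x) := Submodule.finrank_mono inf_le_right
    rcases Nat.eq_zero_or_pos (finrank F ↥(W ⊓ cm x)) with h3 | h3
    · left
      have h4 : W ⊓ cm x = ⊥ := Submodule.finrank_eq_zero.1 h3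
      have h5 := H951.inf_fx_sup_inf_cm h0 hx hW
      rw [h4, sup_bot_eq] at h5
      rw [← h5]
      exact inf_le_right
    · right
      have := Nat.le_of_dvd h3 h1
      have h6 : W ⊓ cm x = cm x := Submodule.eq_of_le_of_finrank_eq inf_le_right (by omega)
      rw [← h6]
      exact inf_le_left
  refine ⟨hc.sup_eq_top, hcm, hor, fun U hU hUi => ?_⟩
  rcases hor U hUi with h1 | h1
  · left
    rw [eq_bot_iff, ← hc.inf_eq_bot]
    exact le_inf h1 hU
  · exact Or.inr (le_antisymm hU h1)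

/-- **no quadratic field for two parities**, any invariant nondegenerate bilinear form -/
theorem no_field2_gen (hirr : ActsIrreducibly (matrixSet H)) (hB : B.Nondegenerate)
    (hBH : ∀ g ∈ H, ∀ u w, B ((g : Matrix ι ι F) *ᵥ u) ((g : Matrix ι ι F) *ᵥ w) = B u w)
    (hr : PP (Nat.card F) j r) (hs : PP (Nat.card F) k s) (hj : Even j) (hk : Even k) (hnj : Fintype.card ι < 2 * j)
    (hnk : Fintype.card ι < 2 * k) (hj2 : 2 ≤ j) (hk2 : 2 ≤ k) (hpar : Odd (j / 2 + k / 2))
    (hrH : r ∣ Nat.card H) (hsH : s ∣ Nat.card H)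
    {K : Subalgebra F (Matrix ι ι F)} (hK : IsFieldSubalgebra 2 K) (hHK : H ≤ subalgebraNormalizer K) : False := by
  have hq := one_lt_q F
  have hcf : Fintype.card F = Nat.card F := (Nat.card_eq_fintype_card).symm
  have hfinGL : Finite (GL ι F) := inferInstance
  have hfin : finrank F (ι → F) = Fintype.card ι := Module.finrank_fintype_fun_eq_card F
  -- elements
  have hel : ∀ {e t : ℕ}, PP (Nat.card F) e t → 2 ≤ e → t ∣ Nat.card H → ∃ g ∈ H, g ^ t = 1 ∧ g ≠ 1 := by
    intro e t ht he hd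
    have := Fact.mk ht.prime
    obtain ⟨g, hg⟩ := exists_prime_orderOf_dvd_card' t hd
    refine ⟨g, g.2, ?_, ?_⟩
    · rw [← Subgroup.coe_pow, ← hg, pow_orderOf_eq_one]; rfl
    · intro h1
      have hg2 : g = 1 := Subtype.ext h1
      rw [hg2, orderOf_one] at hg
      exact ht.prime.one_lt.ne hg
  obtain ⟨g, hgH, hgr, hg1⟩ := hel hr hj2 hrH
  obtain ⟨h, hhH, hhs, hh1⟩ := hel hs hk2 hsH
  have hne : Nonempty ι := by
    by_contra h0
    rw [not_nonempty_iff] at h0
    exact hg1 (Subsingleton.elim _ _)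
  have hlin : ∀ {a : GL ι F} {t : ℕ}, a ^ t = 1 → (lin a) ^ t = 1 := by
    intro a t ha
    rw [← H251.GeoCard.toLin_pow, ha]; exact lin_one
  obtain ⟨g1, g2, g3, g4⟩ := elt_data hr hj2 hnj (hlin hgr) (lin_ne_one hg1)
  obtain ⟨h1, h2, h3, h4⟩ := elt_data hs hk2 hnk (hlin hhs) (lin_ne_one hh1)
  obtain ⟨J, hJK, hJ2, hJinj⟩ := exists_prim hK
  have hcg := comm_field Nat.prime_two hK (hHK hgH) hr.prime (by have := hr.lt (by omega); omega) hgr
  have hch := comm_field Nat.prime_two hK (hHK hhH) hs.prime (by have := hs.lt (by omega); omega) hhs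
  -- the centraliser of the field
  let φ := LieClassical.OrthFinite.glEquiv ι F
  let N0 : Subgroup (GL ι F) :=
    { carrier := {a | a ∈ H ∧ ∀ x ∈ K, (a : Matrix ι ι F) * x = x * (a : Matrix ι ι F)}
      mul_mem' := by
        rintro a b ⟨ha, ha'⟩ ⟨hb, hb'⟩
        refine ⟨H.mul_mem ha hb, fun x hx => ?_⟩
        rw [Units.val_mul, Matrix.mul_assoc, hb' x hx, ← Matrix.mul_assoc, ha' x hx, Matrix.mul_assoc]
      one_mem' := ⟨H.one_mem, fun x _ => by rw [Units.val_one, Matrix.one_mul, Matrix.mul_one]⟩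
      inv_mem' := by
        rintro a ⟨ha, ha'⟩
        refine ⟨H.inv_mem ha, fun x hx => ?_⟩
        have h5 := ha' x hx
        have h6 : ((a⁻¹ : GL ι F) : Matrix ι ι F) * (a : Matrix ι ι F) = 1 := by rw [← Units.val_mul, inv_mul_cancel]; rfl
        have h7 : (a : Matrix ι ι F) * ((a⁻¹ : GL ι F) : Matrix ι ι F) = 1 := by rw [← Units.val_mul, mul_inv_cancel]; rfl
        calc ((a⁻¹ : GL ι F) : Matrix ι ι F) * x
            = ((a⁻¹ : GL ι F) : Matrix ι ι F) * (x * (a : Matrix ι ι F)) * ((a⁻¹ : GL ι F) : Matrix ι ι F) := by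
              rw [Matrix.mul_assoc, Matrix.mul_assoc, h7, Matrix.mul_one]
          _ = x * ((a⁻¹ : GL ι F) : Matrix ι ι F) := by
              rw [← h5, ← Matrix.mul_assoc, h6, Matrix.one_mul] }
  have hφe : ∀ (a : GL ι F) (v : ι → F), φ a v = (a : Matrix ι ι F) *ᵥ v := fun a v => rfl
  have hφl : ∀ a : GL ι F, ((φ a : (ι → F) ≃ₗ[F] (ι → F)) : Module.End F (ι → F)) = lin a := by
    intro a
    apply LinearMap.ext
    intro v
    rw [lin, Matrix.toLin'_apply]
    rfl
  have hφ1 : ∀ {a : GL ι F}, a ≠ 1 → φ a ≠ 1 := fun ha h0 => ha (by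
    have : φ _ = φ 1 := h0.trans (map_one φ).symm
    exact φ.injective this)
  have hstab : ∀ W : Submodule F (ι → F), (∀ h ∈ H, ∀ w ∈ W, φ h w ∈ W) → W = ⊥ ∨ W = ⊤ := by
    intro W hW
    refine hirr W ?_
    rintro _ ⟨a, ha, rfl⟩
    rintro _ ⟨w, hw, rfl⟩
    exact hW a ha w hw
  have hgN : φ g ∈ N0.map φ.toMonoidHom := ⟨g, ⟨hgH, hcg⟩, rfl⟩
  have hhN : φ h ∈ N0.map φ.toMonoidHom := ⟨h, ⟨hhH, hch⟩, rfl⟩
  have hN0 : ∀ W : Submodule F (ι → F), (∀ a ∈ N0.map φ.toMonoidHom, ∀ w ∈ W, a w ∈ W) → W = ⊥ ∨ W = ⊤ := by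
    refine irr_of_normal (H := H.map φ.toMonoidHom) (N := N0.map φ.toMonoidHom) ?_ ?_ (x := φ g) hgN (hφ1 hg1) ?_ ?_
    · intro W hW
      exact hstab W fun a ha => hW _ ⟨a, ha, rfl⟩
    · rintro _ ⟨a, ha, rfl⟩ _ ⟨b, ⟨hb, hb'⟩, rfl⟩
      refine ⟨a * b * a⁻¹, ⟨H.mul_mem (H.mul_mem ha hb) (H.inv_mem ha), fun x hx => ?_⟩, by
        change φ (a * b * a⁻¹) = φ a * φ b * (φ a)⁻¹
        rw [map_mul, map_mul, map_inv]⟩
      -- `a⁻¹ x a ∈ K`
      have h5 : ((a⁻¹ : GL ι F) : Matrix ι ι F) * x * (a : Matrix ι ι F) ∈ K := by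
        have h6 := ((hHK (H.inv_mem ha)) x).1 hx
        have h7 : (((a⁻¹)⁻¹ : GL ι F) : Matrix ι ι F) = a := by rw [inv_inv]
        change ((a⁻¹ : GL ι F) : Matrix ι ι F) * x * (((a⁻¹)⁻¹ : GL ι F) : Matrix ι ι F) ∈ K at h6
        rwa [h7] at h6
      have h8 := hb' _ h5
      have h9 : ((a⁻¹ : GL ι F) : Matrix ι ι F) * (a : Matrix ι ι F) = 1 := by rw [← Units.val_mul, inv_mul_cancel]; rfl
      have h10 : (a : Matrix ι ι F) * ((a⁻¹ : GL ι F) : Matrix ι ι F) = 1 := by rw [← Units.val_mul, mul_inv_cancel]; rfl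
      rw [Units.val_mul, Units.val_mul]
      calc (a : Matrix ι ι F) * (b : Matrix ι ι F) * ((a⁻¹ : GL ι F) : Matrix ι ι F) * x
          = (a : Matrix ι ι F) * ((b : Matrix ι ι F) * (((a⁻¹ : GL ι F) : Matrix ι ι F) * x * (a : Matrix ι ι F))) *
              ((a⁻¹ : GL ι F) : Matrix ι ι F) := by
            simp only [Matrix.mul_assoc]
            rw [h10, Matrix.mul_one]
        _ = x * ((a : Matrix ι ι F) * (b : Matrix ι ι F) * ((a⁻¹ : GL ι F) : Matrix ι ι F)) := by
            rw [h8]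
            simp only [← Matrix.mul_assoc]
            rw [h10, Matrix.one_mul]
    · intro W hW
      rw [hφl]
      exact g3 W fun w hw => by
        rw [← hφl]
        exact hW w hw
    · rw [hφl, g2, hfin]
      omega
  have hpow : ∀ {x : Module.End F (ι → F)} {e t : ℕ}, x ^ t = 1 → PP (Nat.card F) e t → Even e → 1 ≤ e →
      x ^ (Fintype.card F ^ (e / 2) + 1) = 1 := by
    intro x e t hx ht hev he
    have h1 : t ∣ Nat.card F ^ e - 1 := (ht.dvd_iff hq.le e).2 dvd_rfl
    have h2 : ¬ t ∣ Nat.card F ^ (e / 2) - 1 := by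
      rw [ht.dvd_iff hq.le]
      intro h3
      obtain ⟨c, hc⟩ := hev
      have := Nat.le_of_dvd (by omega) h3
      omega
    have h3 : Nat.card F ^ e - 1 = (Nat.card F ^ (e / 2) + 1) * (Nat.card F ^ (e / 2) - 1) := by
      have h4 := Nat.sq_sub_sq (Nat.card F ^ (e / 2)) 1
      rw [one_pow, ← pow_mul, Nat.div_mul_cancel (even_iff_two_dvd.1 hev)] at h4
      exact h4
    rw [h3] at h1
    obtain ⟨c, hc⟩ := (ht.prime.dvd_mul.1 h1).resolve_right h2
    rw [hcf, hc, pow_mul, hx, one_pow]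
  have hpw : ∀ n : ℕ, ∀ w, ((Matrix.toLin' J) ^ n) w = (J ^ n) *ᵥ w := by
    intro n w
    rw [← Matrix.toLin'_pow, Matrix.toLin'_apply]
  refine no_types (J := Matrix.toLin' J) hB (N := N0.map φ.toMonoidHom) ?_ hN0 hgN hhN (hφ1 hg1) (hφ1 hh1) (h₁ := j / 2)
    (h₂ := k / 2) ?_ ?_ hpar ?_ ?_ ?_ ?_ ?_ ?_ ?_
  · rintro _ ⟨a, ⟨ha, -⟩, rfl⟩ u w
    exact hBH a ha u w
  · rw [hφl]; exact hpow (hlin hgr) hr hj (by omega)
  · rw [hφl]; exact hpow (hlin hhs) hs hk (by omega)
  · rw [hφl]; exact g1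
  · rw [hφl]; exact h1
  · rw [hφl]; exact g4
  · rw [hφl]; exact h4
  · rintro _ ⟨a, ⟨-, ha⟩, rfl⟩ v
    change J *ᵥ ((a : Matrix ι ι F) *ᵥ v) = (a : Matrix ι ι F) *ᵥ (J *ᵥ v)
    rw [Matrix.mulVec_mulVec, Matrix.mulVec_mulVec, ha J hJK]
  · rw [← Matrix.toLin'_pow, hJ2]
  · intro w hw
    rw [hpw, Matrix.toLin'_apply] at hw
    exact hJinj w hw

end Mat

end Cfsg.Agent.H449.Reg
end

-- part: H449/Reg/Abs
section
prune_inst 0x10000000000000
set_option linter.all false
open scoped Cfsg.Agent.FastGrp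

/-!
# S3691: the list lemma for groups of isometries of dimension at least ten (helper449)

* `og_iso` : matrices: a group of isometries containing an element of large primitive order is reducible, of extension field type or
  contains `Ω(Q)`
* `cj φ` : `(V ≃ₗ[F] V) ≃* GL ι F`;  `AExt s H` : `H` normalises a field of degree `s`
* `og_abs` : the same for a quadratic space `V`
* `AExt.dvd_fx`, `AExt.dvd_finrank`, `AExt.not_two` : consequences of `AExt`
* `num_of` : the numerical hypotheses for an element of prime power order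
-/

set_option autoImplicit false
set_option linter.unusedSectionVars false

namespace Cfsg.Agent.H449.Reg

open Module QuadraticMap Cfsg Cfsg.Geo Matrix Cfsg.Agent.LieClassical.OrthCore Cfsg.Agent.LieClassical.OrthTrans
  Cfsg.Agent.H955 Cfsg.Agent.H954.TSing Cfsg.Agent.H884.El Cfsg.Agent.H278.Cov
open Cfsg.Agent.H951 (fx cm Inv)
open Cfsg.Agent.LieClassical.OrthFinite (glEquiv glEquiv_apply)
open scoped MatrixGroups

universe u v

section Mat

variable {ι : Type} [Fintype ι] [DecidableEq ι] {F : Type u} [Field F]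

/-- **the list lemma for isometry groups**; `hP` is the text of `S5948` -/
theorem og_iso (hP : H659.CovCore.S5948Stmt.{u}) [Fintype F] {k : ℕ} {Q : (ι → F) → F} (hQ : IsNondegenerateQuadraticForm Q) {H : Subgroup (GL ι F)}
    (hmem : ∀ x ∈ H, ∀ v, Q ((x : Matrix ι ι F) *ᵥ v) = Q v) {g : GL ι F} (hg : g ∈ H)
    (hnum : Num (Fintype.card F) (Fintype.card ι) k (orderOf g)) :
    Red H ∨ Ext (Nat.gcd (Fintype.card ι) k) H ∨ omegaGL Q ≤ H := by
  have hten := hnum.ten
  have hone : Nonempty ι := Fintype.card_pos_iff.1 (by omega)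
  by_cases hred : Red H
  · exact Or.inl hred
  right
  rcases H659.CovCore.core hP hg hnum hred with h | h | ⟨f', hf', h⟩ | ⟨τ, f', hf', h⟩ | ⟨Q', hQ', h⟩
  · exact Or.inl h
  · exfalso
    refine H905.not_sl_le_quadSimilarityGroup (by omega) hQ fun x hx => ?_
    exact ⟨1, fun v => by rw [Units.val_one, one_mul]; exact hmem x (h hx) v⟩
  · exact (H558.Cov.symp_quad_false (by omega) hQ hf' fun x hx => hmem x (h x hx)).elim
  · exact (H558.Cov.unit_quad_false (by omega) hQ hf' fun x hx hd => hmem x (h x hx hd)).elim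
  · right
    have h1 : FixesQuadForm (matrixSet (omegaGL Q')) Q := by
      rintro _ ⟨x, hx, rfl⟩ v
      exact hmem x (h hx) v
    obtain ⟨c, hc, h2⟩ := H925.Nat.quad_prop (H925.Nat.omegaGL_absIrr hQ' (by omega)) hQ' hQ (H925.Nat.omegaGL_fixes Q') h1
    have h3 : omegaGL Q = omegaGL Q' := H925.Nat.omegaGL_smul hc h2
    rw [h3]
    exact h

end Mat

section cj

variable {F : Type u} [Field F] {V : Type v} [AddCommGroup V] [Module F V] {ι : Type} [Fintype ι] [DecidableEq ι]

/-- linear automorphisms as matrices -/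
noncomputable def cj (φ : V ≃ₗ[F] (ι → F)) : (V ≃ₗ[F] V) ≃* GL ι F :=
  { toFun := fun e => (glEquiv ι F).symm ((φ.symm.trans e).trans φ)
    invFun := fun g => (φ.trans (glEquiv ι F g)).trans φ.symm
    left_inv := fun e => by
      change (φ.trans (glEquiv ι F ((glEquiv ι F).symm ((φ.symm.trans e).trans φ)))).trans φ.symm = e
      rw [MulEquiv.apply_symm_apply]
      apply LinearEquiv.ext
      intro v
      simp
    right_inv := fun g => by
      apply (glEquiv ι F).injective
      change glEquiv ι F ((glEquiv ι F).symm _) = _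
      rw [MulEquiv.apply_symm_apply]
      apply LinearEquiv.ext
      intro v
      simp
    map_mul' := fun a b => by
      rw [← map_mul]
      congr 1
      apply LinearEquiv.ext
      intro v
      change φ (a (b (φ.symm v))) = φ (a (φ.symm (φ (b (φ.symm v)))))
      rw [φ.symm_apply_apply] }

theorem cj_apply (φ : V ≃ₗ[F] (ι → F)) (e : V ≃ₗ[F] V) (v : ι → F) :
    (cj φ e : Matrix ι ι F) *ᵥ v = φ (e (φ.symm v)) := by
  rw [← glEquiv_apply]
  change glEquiv ι F ((glEquiv ι F).symm ((φ.symm.trans e).trans φ)) v = _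
  rw [MulEquiv.apply_symm_apply]
  rfl

theorem cj_apply' (φ : V ≃ₗ[F] (ι → F)) (e : V ≃ₗ[F] V) (v : V) :
    (cj φ e : Matrix ι ι F) *ᵥ (φ v) = φ (e v) := by
  rw [cj_apply, φ.symm_apply_apply]

/-- `H` normalises a field of linear maps of prime degree `s` (in coordinates) -/
def AExt (s : ℕ) (H : Subgroup (V ≃ₗ[F] V)) : Prop :=
  ∃ (n : ℕ) (φ : V ≃ₗ[F] (Fin n → F)) (K : Subalgebra F (Matrix (Fin n) (Fin n) F)), s.Prime ∧ IsFieldSubalgebra s K ∧
    H.map (cj φ).toMonoidHom ≤ subalgebraNormalizer K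

theorem finrank_of_equiv {n : ℕ} (φ : V ≃ₗ[F] (Fin n → F)) : finrank F V = n := by
  rw [φ.finrank_eq, Module.finrank_fintype_fun_eq_card, Fintype.card_fin]

theorem AExt.dvd_finrank [Finite F] {s : ℕ} {H : Subgroup (V ≃ₗ[F] V)} (h : AExt s H) : s ∣ finrank F V := by
  obtain ⟨n, φ, K, hs, hK, hle⟩ := h
  have h1 := H906.Cov.ext_dvd hs hK (t := 1) (one_mem _) (by rw [orderOf_one]; exact Nat.coprime_one_left s) (0 : Polynomial F)
  rw [map_zero, LinearMap.ker_zero, finrank_top, Module.finrank_fintype_fun_eq_card, Fintype.card_fin] at h1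
  rw [finrank_of_equiv φ]
  exact h1

theorem AExt.dvd_fx [Finite F] {s r : ℕ} {H : Subgroup (V ≃ₗ[F] V)} (h : AExt s H) {x : V ≃ₗ[F] V} (hx : x ∈ H)
    (hr : r.Prime) (hxr : x ^ r = 1) (hrs : r ≠ s) : s ∣ finrank F (fx (x : Module.End F V)) := by
  obtain ⟨n, φ, K, hs, hK, hle⟩ := h
  have h0 : (cj φ x) ^ r = 1 := by rw [← map_pow, hxr, map_one]
  have h1 := H906.Cov.ext_dvd hs hK (t := cj φ x) (hle ⟨x, hx, rfl⟩)
    (Nat.Coprime.coprime_dvd_left (orderOf_dvd_of_pow_eq_one h0) ((Nat.coprime_primes hr hs).2 hrs)) (Polynomial.X - 1)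
  have h2 : finrank F (fx (x : Module.End F V)) =
      finrank F (LinearMap.ker (Polynomial.aeval (Matrix.toLin' (cj φ x : Matrix (Fin n) (Fin n) F))
        (Polynomial.X - 1 : Polynomial F))) := by
    have h3 : (fx (x : Module.End F V)).map (φ : V →ₗ[F] (Fin n → F)) =
        LinearMap.ker (Polynomial.aeval (Matrix.toLin' (cj φ x : Matrix (Fin n) (Fin n) F)) (Polynomial.X - 1 : Polynomial F)) := by
      ext w
      rw [map_sub, Polynomial.aeval_X, map_one, LinearMap.mem_ker, LinearMap.sub_apply, Matrix.toLin'_apply, sub_eq_zero]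
      constructor
      · rintro ⟨v, hv, rfl⟩
        have h4 : x v = v := H951.mem_fx.1 hv
        change (cj φ x : Matrix (Fin n) (Fin n) F) *ᵥ (φ v) = φ v
        rw [cj_apply', h4]
      · intro h4
        refine ⟨φ.symm w, H951.mem_fx.2 ?_, φ.apply_symm_apply w⟩
        rw [cj_apply] at h4
        apply φ.injective
        rw [φ.apply_symm_apply]
        exact h4
    rw [← h3]
    exact (LinearEquiv.finrank_map_eq φ _).symm
  rw [h2]
  exact h1

variable {Q : QuadraticForm F V}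

/-- the transported quadratic form -/
def tq (Q : QuadraticForm F V) (φ : V ≃ₗ[F] (ι → F)) : QuadraticForm F (ι → F) := Q.comp (φ.symm : (ι → F) →ₗ[F] V)

theorem tq_apply (φ : V ≃ₗ[F] (ι → F)) (v : ι → F) : tq Q φ v = Q (φ.symm v) := rfl

theorem polar_tq (φ : V ≃ₗ[F] (ι → F)) (u v : ι → F) : polar (tq Q φ) u v = polar Q (φ.symm u) (φ.symm v) := by
  simp only [polar, tq_apply, map_add]

theorem nondeg_tq (hQ : Nondeg Q) (φ : V ≃ₗ[F] (ι → F)) : Nondeg (tq Q φ) := by
  intro x hx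
  have h1 : φ.symm x = 0 := hQ _ fun y => by
    have := hx (φ y)
    rwa [polar_tq, φ.symm_apply_apply] at this
  rw [← φ.apply_symm_apply x, h1, map_zero]

theorem cj_iso (φ : V ≃ₗ[F] (ι → F)) {x : V ≃ₗ[F] V} (hx : x ∈ O Q) : cj φ x ∈ Cfsg.isometryGroup F (⇑(tq Q φ)) := by
  rw [LieClassical.OrthFinite.mem_isometryGroup_iff]
  intro v
  rw [tq_apply, cj_apply, φ.symm_apply_apply, tq_apply]
  exact mem_O.1 hx _

theorem AExt.not_two [Fintype F] [FiniteDimensional F V] (hQ : Nondeg Q) {H : Subgroup (V ≃ₗ[F] V)} (hH : H ≤ O Q)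
    {j k r s : ℕ} (hr : PP (Nat.card F) j r) (hs : PP (Nat.card F) k s) (hn : finrank F V = j) (hj : Even j) (hk : Even k)
    (hj2 : 2 ≤ j) (hjk : j < 2 * k) (hpar : Odd (j / 2 + k / 2)) (hrH : r ∣ Nat.card H) (hsH : s ∣ Nat.card H)
    (h : AExt 2 H) : False := by
  obtain ⟨n, φ, K, -, hK, hle⟩ := h
  have hn' := finrank_of_equiv φ
  have hc : Nat.card (H.map (cj φ).toMonoidHom) = Nat.card H := Subgroup.card_map_of_injective (cj φ).injective
  refine no_field2 (nondeg_tq hQ φ) (H := H.map (cj φ).toMonoidHom) ?_ hr hs (by rw [Fintype.card_fin]; omega) hj hk hj2 hjk hpar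
    (by rw [hc]; exact hrH) (by rw [hc]; exact hsH) hK hle
  rintro _ ⟨x, hx, rfl⟩
  exact cj_iso φ (hH hx)

/-- **the list lemma for a quadratic space of dimension at least ten** -/
theorem og_abs (hP : H659.CovCore.S5948Stmt.{u}) [Fintype F] [FiniteDimensional F V] (hQ : Nondeg Q) {H : Subgroup (V ≃ₗ[F] V)} (hH : H ≤ O Q)
    {g : V ≃ₗ[F] V} (hg : g ∈ H) {k : ℕ} (hnum : Num (Fintype.card F) (finrank F V) k (orderOf g)) :
    (∃ W : Submodule F V, W ≠ ⊥ ∧ W ≠ ⊤ ∧ ∀ h ∈ H, ∀ w ∈ W, h w ∈ W) ∨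
    (∃ s, s.Prime ∧ s ∣ Nat.gcd (finrank F V) k ∧ AExt s H) ∨ E Q ≤ H := by
  set n := finrank F V with hn
  let φ : V ≃ₗ[F] (Fin n → F) := LinearEquiv.ofFinrankEq _ _ (by rw [Module.finrank_fintype_fun_eq_card, Fintype.card_fin])
  have hQ' := nondeg_tq hQ φ
  have hQ'' := H884.OddForm.isNondegenerate_of_nondeg _ hQ'
  have ho : orderOf (cj φ g) = orderOf g := MulEquiv.orderOf_eq _ g
  rcases og_iso hP (k := k) hQ'' (H := H.map (cj φ).toMonoidHom) (by
    rintro _ ⟨x, hx, rfl⟩
    exact LieClassical.OrthFinite.mem_isometryGroup_iff.1 (cj_iso φ (hH hx))) (g := cj φ g) ⟨g, hg, rfl⟩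
    (by rw [ho, Fintype.card_fin]; exact hnum) with ⟨W, hW0, hW1, hW⟩ | ⟨s, K, hs, hsd, hK, hle⟩ | h
  · left
    refine ⟨W.comap (φ : V →ₗ[F] (Fin n → F)), ?_, ?_, ?_⟩
    · intro h0
      apply hW0
      rw [Submodule.eq_bot_iff]
      intro w hw
      have : φ.symm w ∈ W.comap (φ : V →ₗ[F] (Fin n → F)) := by
        change φ (φ.symm w) ∈ W
        rwa [φ.apply_symm_apply]
      rw [h0, Submodule.mem_bot] at this
      rw [← φ.apply_symm_apply w, this, map_zero]
    · intro h0
      apply hW1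
      rw [eq_top_iff]
      intro w _
      have : φ.symm w ∈ W.comap (φ : V →ₗ[F] (Fin n → F)) := by rw [h0]; trivial
      have h1 : φ (φ.symm w) ∈ W := this
      rwa [φ.apply_symm_apply] at h1
    · intro h hh w hw
      have h1 : cj φ h ∈ subspaceStabilizer W := hW ⟨h, hh, rfl⟩
      have h2 : (cj φ h : Matrix (Fin n) (Fin n) F) *ᵥ φ w ∈ W := (h1 (φ w)).1 hw
      rw [cj_apply'] at h2
      exact h2
  · right; left
    rw [Fintype.card_fin] at hsd
    exact ⟨s, hs, hsd, n, φ, K, hs, hK, hle⟩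
  · right; right
    have hn5 : 5 ≤ Fintype.card (Fin n) := by rw [Fintype.card_fin]; have := hnum.ten; omega
    rw [E, Subgroup.closure_le]
    rintro _ ⟨u, w, hu, hw, rfl⟩
    have hu' : (H884.OmegaGL.bundle (⇑(tq Q φ)) hQ'') (φ u) = 0 := by
      change Q (φ.symm (φ u)) = 0
      rw [φ.symm_apply_apply, hu]
    have hw' : polar (H884.OmegaGL.bundle (⇑(tq Q φ)) hQ'') (φ u) (φ w) = 0 := by
      change polar (tq Q φ) (φ u) (φ w) = 0
      rw [polar_tq, φ.symm_apply_apply, φ.symm_apply_apply, hw]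
    have h1 : cj φ (siegel Q u w hu hw) ∈ omegaGL (⇑(tq Q φ)) := by
      rw [H884.OmegaGL.mem_omegaGL _ hQ'' hn5]
      have h2 : glEquiv (Fin n) F (cj φ (siegel Q u w hu hw)) = siegel _ (φ u) (φ w) hu' hw' := by
        apply LinearEquiv.ext
        intro v
        rw [glEquiv_apply, siegel_apply, cj_apply, siegel_apply, map_sub, map_sub, map_add, map_smul, map_smul, map_smul,
          φ.apply_symm_apply]
        have e1 : ∀ a b : V, polar (H884.OmegaGL.bundle (⇑(tq Q φ)) hQ'') (φ a) (φ b) = polar Q a b := by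
          intro a b
          change polar (tq Q φ) (φ a) (φ b) = _
          rw [polar_tq, φ.symm_apply_apply, φ.symm_apply_apply]
        have e2 : (H884.OmegaGL.bundle (⇑(tq Q φ)) hQ'') (φ w) = Q w := by
          change Q (φ.symm (φ w)) = _
          rw [φ.symm_apply_apply]
        have e3 : v = φ (φ.symm v) := (φ.apply_symm_apply v).symm
        rw [e2]
        conv_rhs => rw [e3, e1, e1]
        rw [φ.apply_symm_apply]
      rw [h2]
      exact siegel_mem_E hu' hw'
    obtain ⟨x, hx, hxe⟩ := h h1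
    have : x = siegel Q u w hu hw := (cj φ).injective hxe
    rw [← this]
    exact hx

end cj

/-- the numerical hypotheses for the full `r`-part of `q ^ k - 1` -/
theorem num_of {p f k n r a : ℕ} (hp : p.Prime) (hf : 1 ≤ f) (hr : PP p (f * k) r) (hn : 10 ≤ n) (hkn : k ≤ n)
    (hk : n < 2 * k) (hbig : 2 * k + 1 < r ^ a) (hdvd : r ^ a ∣ (p ^ f) ^ k - 1) : Num (p ^ f) n k (r ^ a) := by
  have hfk : 1 ≤ f * k := Nat.mul_pos hf (by omega)
  have hpp : 1 ≤ p := hp.one_le
  have hnd : ∀ i : ℕ, 0 < i → i < f * k → ¬ r ∣ p ^ i - 1 := fun i hi hik h => by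
    have := Nat.le_of_dvd hi ((hr.dvd_iff hpp i).1 h)
    omega
  have ha : a ≠ 0 := by
    rintro rfl
    rw [pow_zero] at hbig
    omega
  refine ⟨hn, hkn, hk, hbig, hdvd, fun i hi hik => ?_, r, hr.prime, dvd_pow_self r ha, fun q₀ t ht h j hj1 hj2 => ?_⟩
  · apply Nat.Coprime.pow_left
    rw [Nat.Prime.coprime_iff_not_dvd hr.prime, ← pow_mul]
    exact hnd _ (Nat.mul_pos hf hi) (Nat.mul_lt_mul_of_pos_left hik hf)
  · exact H906.Cov.sub_of hp hf hk hnd ht h hj1 hj2

end Cfsg.Agent.H449.Reg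
end

-- part: H826/RgF/Defs
section
set_option linter.all false

/-!
# S3691, reduction of the plus type: the list lemmas as hypotheses (helper826)

* `LO F n k a b` : the list lemma for quadratic spaces of dimension `n` over `F`, groups containing elements of orders `a` and `b`
* `LS F n k a b` : the same for groups preserving the polar form (characteristic two)
-/

set_option autoImplicit false

namespace Cfsg.Agent.H826.RgF

open Module QuadraticMap Cfsg Cfsg.Geo Cfsg.Agent.LieClassical.OrthCore Cfsg.Agent.LieClassical.OrthTrans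
  Cfsg.Agent.H449.Reg Cfsg.Agent.H955 Cfsg.Agent.H954.TSing Cfsg.Agent.H884.El
open Cfsg.Agent.H951 (fx cm Inv)

section

variable {F : Type} [Field F] {V : Type} [AddCommGroup V] [Module F V]

/-- `W` is `A`-invariant -/
def Iv (A : Subgroup (V ≃ₗ[F] V)) (W : Submodule F V) : Prop := ∀ a ∈ A, ∀ w ∈ W, a w ∈ W

/-- `A` is reducible -/
def Rd (A : Subgroup (V ≃ₗ[F] V)) : Prop := ∃ W : Submodule F V, W ≠ ⊥ ∧ W ≠ ⊤ ∧ ∀ a ∈ A, ∀ w ∈ W, a w ∈ W

/-- `A` contains an element of order `a` -/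
def El (A : Subgroup (V ≃ₗ[F] V)) (a : ℕ) : Prop := ∃ g ∈ A, orderOf g = a

end

/-- the list lemma (orthogonal) -/
def LO (F : Type) [Field F] (n k a b : ℕ) : Prop :=
  ∀ {V : Type} [AddCommGroup V] [Module F V] [FiniteDimensional F V] {Q : QuadraticForm F V}, Nondeg Q → finrank F V = n →
    ∀ A : Subgroup (V ≃ₗ[F] V), A ≤ O Q → El A a → El A b →
    Rd A ∨ (∃ s, s.Prime ∧ s ∣ Nat.gcd n k ∧ AExt s A) ∨ E Q ≤ A

/-- the list lemma (symplectic, characteristic two) -/
def LS (F : Type) [Field F] (n k a b : ℕ) : Prop :=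
  ∀ {V : Type} [AddCommGroup V] [Module F V] [FiniteDimensional F V] {Q : QuadraticForm F V}, Nondeg Q → finrank F V = n →
    ∀ A : Subgroup (V ≃ₗ[F] V), (∀ h ∈ A, ∀ u v, polar Q (h u) (h v) = polar Q u v) → El A a → El A b →
    Rd A ∨ (∃ s, s.Prime ∧ s ∣ Nat.gcd n k ∧ AExt s A) ∨
    (∀ x : V ≃ₗ[F] V, (∀ u v, polar Q (x u) (x v) = polar Q u v) → x ∈ A) ∨
    (∃ Q' : QuadraticForm F V, (∀ u v, polar Q' u v = polar Q u v) ∧ E Q' ≤ A)

end Cfsg.Agent.H826.RgF
end
end

-- part: H655/Rg/Fld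
section
prune_inst 0x10000000000000
set_option linter.all false
open scoped Cfsg.Agent.FastGrp

/-!
# S3691: coordinates over a field of matrices (helper655)

* `Fr K E m`, `exists_fr` : coordinates over the field `K` of matrices; `liftHom` : the centraliser of `K` as matrices over `E`
* `inv_all`, `inv_cases` : invariant subspaces of an element of primitive prime order
-/

set_option autoImplicit false

namespace Cfsg.Agent.H655.Rg

open Module Cfsg Cfsg.Geo
open Cfsg.Agent.LieClassical.OrthFinite (glEquiv glEquiv_apply)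
open Cfsg.Agent.H951 (fx cm Inv inv_fx inv_cm)
open Cfsg.Agent.H884.El (PP)
open scoped MatrixGroups Matrix

universe u v

section Frame

variable {F : Type u} [Field F] {n : ℕ}

/-- coordinates over a field of matrices -/
structure Fr (K : Subalgebra F (Matrix (Fin n) (Fin n) F)) (E : Type u) [Field E] (m : ℕ) where
  /-- the coordinates -/
  ψ : (Fin n → F) ≃+ (Fin m → E)
  /-- the scalars -/
  toE : Matrix (Fin n) (Fin n) F → E
  act : ∀ k ∈ K, ∀ v, ψ (k *ᵥ v) = toE k • ψ v
  surj : ∀ e : E, ∃ k ∈ K, toE k = e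

theorem exists_fr [Fintype F] {s : ℕ} {K : Subalgebra F (Matrix (Fin n) (Fin n) F)} (hK : IsFieldSubalgebra s K) {m : ℕ}
    (hn : n = s * m) (hs : 0 < s) (hm : 0 < m) :
    ∃ (E : Type u) (_ : Field E) (_ : Fintype E), Fintype.card E = Fintype.card F ^ s ∧ Nonempty (Fr K E m) := by
  classical
  have h0 : 0 < n := by rw [hn]; exact Nat.mul_pos hs hm
  have hne : Nonempty (Fin n) := ⟨⟨0, h0⟩⟩
  let _ : Field K := (H906.Cov.isField_of hK).toField
  have hfin : Finite K := Module.finite_of_finite F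
  let _ : Fintype K := Fintype.ofFinite K
  have hfr : Module.Free K (Fin n → F) := Module.Free.of_divisionRing _ _
  have hst : IsScalarTower F K (Fin n → F) := Subalgebra.isScalarTower_mid _
  have h1 := Module.finrank_mul_finrank F K (Fin n → F)
  rw [hK.finrank_eq, Module.finrank_fintype_fun_eq_card, Fintype.card_fin] at h1
  have h2 : Module.finrank K (Fin n → F) = m := Nat.eq_of_mul_eq_mul_left hs (h1.trans hn)
  have hff : Module.Finite K (Fin n → F) := Module.Finite.of_restrictScalars_finite F K (Fin n → F)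
  let ψ : (Fin n → F) ≃ₗ[K] (Fin m → K) := LinearEquiv.ofFinrankEq _ _ (by
    rw [h2, Module.finrank_fintype_fun_eq_card, Fintype.card_fin])
  refine ⟨K, inferInstance, inferInstance, ?_, ⟨⟨ψ.toAddEquiv, fun k => if h : k ∈ K then ⟨k, h⟩ else 0, ?_, ?_⟩⟩⟩
  · rw [Module.card_eq_pow_finrank (K := F), hK.finrank_eq]
  · intro k hk v
    rw [dif_pos hk]
    exact ψ.map_smul (⟨k, hk⟩ : K) v
  · rintro ⟨k, hk⟩
    exact ⟨k, hk, dif_pos hk⟩

/-- the centraliser of `K` -/
def cz (K : Subalgebra F (Matrix (Fin n) (Fin n) F)) : Subgroup (GL (Fin n) F) where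
  carrier := {x | ∀ k ∈ K, (x : Matrix (Fin n) (Fin n) F) * k = k * x}
  mul_mem' {a b} ha hb := by
    intro k hk
    rw [Units.val_mul, mul_assoc, hb k hk, ← mul_assoc, ha k hk, mul_assoc]
  one_mem' := by intro k _; simp
  inv_mem' {a} ha := by
    intro k hk
    have h1 := ha k hk
    calc ((a⁻¹ : GL (Fin n) F) : Matrix (Fin n) (Fin n) F) * k =
        ((a⁻¹ : GL (Fin n) F) : Matrix (Fin n) (Fin n) F) * (k * a) * ((a⁻¹ : GL (Fin n) F) : Matrix (Fin n) (Fin n) F) := by
          rw [mul_assoc, mul_assoc, ← Units.val_mul, mul_inv_cancel, Units.val_one, mul_one]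
      _ = k * ((a⁻¹ : GL (Fin n) F) : Matrix (Fin n) (Fin n) F) := by
          rw [← h1, ← mul_assoc, ← Units.val_mul, inv_mul_cancel, Units.val_one, one_mul]

variable {K : Subalgebra F (Matrix (Fin n) (Fin n) F)} {E : Type u} [Field E] {m : ℕ} (φ : Fr K E m)

theorem Fr.symm_smul (e : E) {k : Matrix (Fin n) (Fin n) F} (hk : k ∈ K) (he : φ.toE k = e) (w : Fin m → E) :
    φ.ψ.symm (e • w) = k *ᵥ φ.ψ.symm w := by
  apply φ.ψ.injective
  rw [φ.act k hk, φ.ψ.apply_symm_apply, φ.ψ.apply_symm_apply, he]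

/-- elements of the centraliser over `E` -/
def up (x : cz K) : (Fin m → E) ≃ₗ[E] (Fin m → E) where
  toFun w := φ.ψ (((x : GL (Fin n) F) : Matrix (Fin n) (Fin n) F) *ᵥ φ.ψ.symm w)
  map_add' a b := by rw [map_add, Matrix.mulVec_add, map_add]
  map_smul' e w := by
    obtain ⟨k, hk, he⟩ := φ.surj e
    rw [φ.symm_smul e hk he, Matrix.mulVec_mulVec, x.2 k hk, ← Matrix.mulVec_mulVec, φ.act k hk, he, RingHom.id_apply]
  invFun w := φ.ψ ((((x : GL (Fin n) F)⁻¹ : GL (Fin n) F) : Matrix (Fin n) (Fin n) F) *ᵥ φ.ψ.symm w)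
  left_inv w := by
    change φ.ψ ((((x : GL (Fin n) F)⁻¹ : GL (Fin n) F) : Matrix (Fin n) (Fin n) F) *ᵥ
      φ.ψ.symm (φ.ψ (((x : GL (Fin n) F) : Matrix (Fin n) (Fin n) F) *ᵥ φ.ψ.symm w))) = w
    rw [φ.ψ.symm_apply_apply, Matrix.mulVec_mulVec, ← Units.val_mul, inv_mul_cancel, Units.val_one, Matrix.one_mulVec,
      φ.ψ.apply_symm_apply]
  right_inv w := by
    change φ.ψ (((x : GL (Fin n) F) : Matrix (Fin n) (Fin n) F) *ᵥ
      φ.ψ.symm (φ.ψ ((((x : GL (Fin n) F)⁻¹ : GL (Fin n) F) : Matrix (Fin n) (Fin n) F) *ᵥ φ.ψ.symm w))) = w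
    rw [φ.ψ.symm_apply_apply, Matrix.mulVec_mulVec, ← Units.val_mul, mul_inv_cancel, Units.val_one, Matrix.one_mulVec,
      φ.ψ.apply_symm_apply]

theorem up_apply (x : cz K) (w : Fin m → E) :
    up φ x w = φ.ψ (((x : GL (Fin n) F) : Matrix (Fin n) (Fin n) F) *ᵥ φ.ψ.symm w) := rfl

/-- the centraliser of `K` as matrices over `E` -/
noncomputable def liftHom : cz K →* GL (Fin m) E :=
  (glEquiv (Fin m) E).symm.toMonoidHom.comp
    { toFun := up φ
      map_one' := by
        apply LinearEquiv.ext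
        intro w
        rw [up_apply, OneMemClass.coe_one, Units.val_one, Matrix.one_mulVec, φ.ψ.apply_symm_apply]
        rfl
      map_mul' := fun a b => by
        apply LinearEquiv.ext
        intro w
        rw [LinearEquiv.mul_apply, up_apply, up_apply, up_apply, φ.ψ.symm_apply_apply, Matrix.mulVec_mulVec, ← Units.val_mul,
          ← Subgroup.coe_mul] }

theorem lift_apply (x : cz K) (w : Fin m → E) : (liftHom φ x : Matrix (Fin m) (Fin m) E) *ᵥ w =
    φ.ψ (((x : GL (Fin n) F) : Matrix (Fin n) (Fin n) F) *ᵥ φ.ψ.symm w) := by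
  rw [← glEquiv_apply]
  change glEquiv (Fin m) E ((glEquiv (Fin m) E).symm (up φ x)) w = _
  rw [MulEquiv.apply_symm_apply]
  rfl

theorem lift_injective : Function.Injective (liftHom φ) := by
  intro x y hxy
  apply Subtype.ext
  apply (glEquiv (Fin n) F).injective
  apply LinearEquiv.ext
  intro v
  rw [glEquiv_apply, glEquiv_apply]
  have h1 := lift_apply φ x (φ.ψ v)
  rw [hxy, lift_apply, φ.ψ.symm_apply_apply] at h1
  exact (φ.ψ.injective h1).symm

/-- the part of `B` centralising `K`, over `E` -/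
noncomputable def low (B : Subgroup (GL (Fin n) F)) : Subgroup (GL (Fin m) E) := (B.subgroupOf (cz K)).map (liftHom φ)

theorem mem_low {B : Subgroup (GL (Fin n) F)} {x : GL (Fin n) F} (hx : x ∈ cz K) (hxB : x ∈ B) :
    liftHom φ ⟨x, hx⟩ ∈ low φ B := ⟨⟨x, hx⟩, hxB, rfl⟩

theorem card_low_dvd (B : Subgroup (GL (Fin n) F)) : Nat.card (low φ B) ∣ Nat.card B := by
  rw [low, Subgroup.card_map_of_injective (lift_injective φ), ← Subgroup.card_map_of_injective (Subgroup.subtype_injective _),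
    Subgroup.subgroupOf_map_subtype]
  exact Subgroup.card_dvd_of_le inf_le_left

/-- the pullback of a subspace -/
def pull (U : Submodule E (Fin m → E)) : Submodule F (Fin n → F) where
  carrier := {v | φ.ψ v ∈ U}
  add_mem' {a b} ha hb := by
    change φ.ψ (a + b) ∈ U
    rw [map_add]
    exact U.add_mem ha hb
  zero_mem' := by
    change φ.ψ 0 ∈ U
    rw [map_zero]
    exact U.zero_mem
  smul_mem' c v hv := by
    change φ.ψ (c • v) ∈ U
    have h1 : c • v = (algebraMap F (Matrix (Fin n) (Fin n) F) c) *ᵥ v := by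
      rw [Algebra.algebraMap_eq_smul_one, Matrix.smul_mulVec, Matrix.one_mulVec]
    rw [h1, φ.act _ (K.algebraMap_mem c)]
    exact U.smul_mem _ hv

theorem mem_pull {U : Submodule E (Fin m → E)} {v : Fin n → F} : v ∈ pull φ U ↔ φ.ψ v ∈ U := Iff.rfl

theorem pull_stable {U : Submodule E (Fin m → E)} {k : Matrix (Fin n) (Fin n) F} (hk : k ∈ K) {v : Fin n → F}
    (hv : v ∈ pull φ U) : k *ᵥ v ∈ pull φ U := by
  rw [mem_pull, φ.act k hk]
  exact U.smul_mem _ hv

theorem pull_ne_bot {U : Submodule E (Fin m → E)} (hU : U ≠ ⊥) : pull φ U ≠ ⊥ := by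
  intro h
  apply hU
  rw [Submodule.eq_bot_iff]
  intro w hw
  have h1 : φ.ψ.symm w ∈ pull φ U := by rw [mem_pull, φ.ψ.apply_symm_apply]; exact hw
  rw [h, Submodule.mem_bot] at h1
  rw [← φ.ψ.apply_symm_apply w, h1, map_zero]

theorem pull_ne_top {U : Submodule E (Fin m → E)} (hU : U ≠ ⊤) : pull φ U ≠ ⊤ := by
  intro h
  apply hU
  rw [eq_top_iff]
  intro w _
  have h1 : φ.ψ.symm w ∈ pull φ U := by rw [h]; trivial
  rwa [mem_pull, φ.ψ.apply_symm_apply] at h1

theorem pull_inv {B : Subgroup (GL (Fin n) F)} {U : Submodule E (Fin m → E)} (hU : low φ B ≤ subspaceStabilizer U)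
    {x : GL (Fin n) F} (hx : x ∈ cz K) (hxB : x ∈ B) {v : Fin n → F} (hv : v ∈ pull φ U) :
    (x : Matrix (Fin n) (Fin n) F) *ᵥ v ∈ pull φ U := by
  have h1 := (hU (mem_low φ hx hxB) (φ.ψ v)).1 hv
  change (liftHom φ ⟨x, hx⟩ : Matrix (Fin m) (Fin m) E) *ᵥ φ.ψ v ∈ U at h1
  rw [lift_apply, φ.ψ.symm_apply_apply] at h1
  exact h1

end Frame

section Inv

variable {F : Type u} [Field F] [Fintype F] {W : Type v} [AddCommGroup W] [Module F W] [FiniteDimensional F W]
  {x : Module.End F W} {r e : ℕ}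

theorem ne0 (h : PP (Nat.card F) e r) (he : 1 ≤ e) : (r : F) ≠ 0 := by
  intro h0
  obtain ⟨p, hp⟩ := CharP.exists F
  obtain ⟨n, hpp, hn⟩ := FiniteField.card F p
  have h1 : p ∣ r := (CharP.cast_eq_zero_iff F p r).1 h0
  have h2 : p = r := (Nat.prime_dvd_prime_iff_eq hpp h.prime).1 h1
  apply h.not_dvd he
  rw [Nat.card_eq_fintype_card, hn, h2]
  exact dvd_pow_self _ n.ne_zero

theorem dvd_inf (hr : PP (Nat.card F) e r) (he : 1 ≤ e) (hx : x ^ r = 1) {U : Submodule F W} (hU : _root_.Cfsg.Agent.H951.Inv x U) :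
    e ∣ finrank F ↥(U ⊓ cm x) := by
  have := Fact.mk hr.prime
  have h1 := H951.ord_dvd_finrank hx (hU.inf inv_cm) (H951.inf_fx_of_le_cm (ne0 hr he) hx inf_le_right)
  rwa [← Nat.card_eq_fintype_card, hr.ord] at h1

theorem dvd_cm (hr : PP (Nat.card F) e r) (he : 1 ≤ e) (hx : x ^ r = 1) : e ∣ finrank F (cm x) := by
  have := dvd_inf hr he hx (U := ⊤) H951.inv_top
  rwa [top_inf_eq] at this

omit [Fintype F] in
theorem cm_pos (hx1 : x ≠ 1) : 0 < finrank F (cm x) := by
  rw [Nat.pos_iff_ne_zero]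
  intro h0
  apply hx1
  have h1 : x - 1 = 0 := LinearMap.range_eq_bot.1 (Submodule.finrank_eq_zero.1 h0)
  exact sub_eq_zero.1 h1

/-- primitive primes of the full dimension -/
theorem inv_all (hr : PP (Nat.card F) e r) (he : 1 ≤ e) (hx : x ^ r = 1) (hx1 : x ≠ 1) (hW : finrank F W = e)
    {U : Submodule F W} (hU : _root_.Cfsg.Agent.H951.Inv x U) : U = ⊥ ∨ U = ⊤ := by
  have h1 := dvd_cm hr he hx
  have h2 := cm_pos hx1
  have h3 : finrank F (cm x) ≤ finrank F W := Submodule.finrank_le _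
  have h4 := Nat.le_of_dvd h2 h1
  have h5 : cm x = ⊤ := Submodule.eq_top_of_finrank_eq (by omega)
  have h6 := dvd_inf hr he hx hU
  rw [h5, inf_top_eq] at h6
  have h7 : finrank F U ≤ finrank F W := Submodule.finrank_le _
  rcases Nat.eq_zero_or_pos (finrank F U) with h8 | h8
  · exact Or.inl (Submodule.finrank_eq_zero.1 h8)
  · have := Nat.le_of_dvd h8 h6
    exact Or.inr (Submodule.eq_top_of_finrank_eq (by omega))

/-- primitive primes of codimension two -/
theorem inv_cases (hr : PP (Nat.card F) e r) (he : Even e) (he2 : 2 < e) (hx : x ^ r = 1) (hx1 : x ≠ 1)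
    (hW : finrank F W = e + 2) : finrank F (fx x) = 2 ∧ finrank F (cm x) = e ∧
    ∀ U : Submodule F W, _root_.Cfsg.Agent.H951.Inv x U → 2 ∣ finrank F U → U ≠ ⊥ → U ≠ ⊤ → U = fx x ∨ U = cm x := by
  have hr0 := ne0 hr (by omega)
  have h1 := dvd_cm hr (by omega) hx
  have h2 := cm_pos hx1
  have h3 : finrank F (cm x) ≤ finrank F W := Submodule.finrank_le _
  have h4 : finrank F (cm x) = e := by
    obtain ⟨A, hA⟩ := h1
    have hA1 : A = 1 := by
      have h4 : A < 2 := by
        by_contra hcon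
        push Not at hcon
        have := Nat.mul_le_mul_left e hcon
        omega
      have h5 : A ≠ 0 := by rintro rfl; omega
      omega
    rw [hA, hA1, mul_one]
  have h5 := H951.finrank_fx_add_cm hr0 hx
  have h6 : finrank F (fx x) = 2 := by omega
  refine ⟨h6, h4, fun U hU hd h0 ht => ?_⟩
  have h7 := H951.finrank_inf_add hr0 hx hU
  have h8 := dvd_inf hr (by omega) hx hU
  have h9 : finrank F ↥(U ⊓ cm x) ≤ finrank F (cm x) := Submodule.finrank_mono inf_le_right
  have h10 : finrank F ↥(U ⊓ fx x) ≤ finrank F (fx x) := Submodule.finrank_mono inf_le_right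
  have h11 : finrank F U ≠ 0 := fun h => h0 (Submodule.finrank_eq_zero.1 h)
  obtain ⟨i, hi⟩ := he
  obtain ⟨j, hj⟩ := hd
  rcases Nat.eq_zero_or_pos (finrank F ↥(U ⊓ cm x)) with h12 | h12
  · left
    have h13 : finrank F ↥(U ⊓ fx x) = finrank F U := by omega
    have h14 : finrank F ↥(U ⊓ fx x) = finrank F (fx x) := by omega
    exact (Submodule.eq_of_le_of_finrank_eq inf_le_left h13).symm.trans (Submodule.eq_of_le_of_finrank_eq inf_le_right h14)
  · right
    have h13 := Nat.le_of_dvd h12 h8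
    have h14 : finrank F ↥(U ⊓ cm x) = finrank F (cm x) := by omega
    have h15 : cm x ≤ U := by
      rw [← Submodule.eq_of_le_of_finrank_eq inf_le_right h14]
      exact inf_le_left
    have h16 : finrank F U ≠ finrank F W := fun h => ht (Submodule.eq_top_of_finrank_eq h)
    have h17 : finrank F U ≤ finrank F W := Submodule.finrank_le _
    exact (Submodule.eq_of_le_of_finrank_eq h15 (by omega)).symm

end Inv

end Cfsg.Agent.H655.Rg

private theorem dce_921847cb5f29 : _root_.True := by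
  try have : _root_.True := by simp only [_root_.Cfsg.Agent.H655.Rg.low.eq_1]
  exact _root_.True.intro
end

section
prune_inst 0xfffdfdbbb9eddfffff7e77f6fccffdffba3fffa4dff9cb7fe069df2f9f6b12c9c5fb8d0feb11fe1ed6ca1410ec7bc3f9ffeeffe26bdc7ffffd5ff41ffbffdfedffb50c5195ac340ffe6fff93f0778e7f000000000000000000000000000000000200000000

-- part: H522/Rg/PolF
section
set_option linter.all false
open scoped Cfsg.Agent.FastGrp

/-!
# S3691-T16: elements of primitive prime order for a polar form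

* `fx_even`, `fx_odd` : dimension of the fixed space
* `sp_not_two_odd`, `o_not_two_odd`, `sp_not_two` : no field of degree two
* `E_dvd` : primes of `Ω(Q)`
-/

set_option autoImplicit false
set_option linter.unusedSectionVars false

namespace Cfsg.Agent.H522.Rg

open Module QuadraticMap Cfsg Cfsg.Geo Cfsg.Agent.LieClassical.OrthCore Cfsg.Agent.LieClassical.OrthTrans
  Cfsg.Agent.H884.El Cfsg.Agent.H955 Cfsg.Agent.H954.TSing Cfsg.Agent.H449.Reg
open Cfsg.Agent.H951 (fx cm Inv)
open scoped MatrixGroups Matrix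

universe u v

section abs

variable {F : Type u} [Field F] [Fintype F] {V : Type v} [AddCommGroup V] [Module F V] [FiniteDimensional F V]
  {Q : QuadraticForm F V} {H : Subgroup (V ≃ₗ[F] V)}

theorem rank_nul (x : Module.End F V) : finrank F (fx x) + finrank F (cm x) = finrank F V := by
  have h := LinearMap.finrank_range_add_finrank_ker (x - 1)
  rw [add_comm]
  exact h

theorem coe_ne_one {x : V ≃ₗ[F] V} (hx1 : x ≠ 1) : (x : Module.End F V) ≠ 1 := by
  intro h0
  apply hx1
  apply LinearEquiv.ext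
  intro v
  exact congrArg (fun e : Module.End F V => e v) h0

theorem coe_pow' (x : V ≃ₗ[F] V) (n : ℕ) : ((x ^ n : V ≃ₗ[F] V) : Module.End F V) = (x : Module.End F V) ^ n := by
  induction n with
  | zero => rfl
  | succ n ih =>
    rw [pow_succ, pow_succ, ← ih]
    rfl

theorem coe_pow_one {x : V ≃ₗ[F] V} {r : ℕ} (hxr : x ^ r = 1) : (x : Module.End F V) ^ r = 1 := by
  rw [← coe_pow', hxr]
  rfl

/-- (T16.1) -/
theorem fx_even {x : V ≃ₗ[F] V} {e r : ℕ} (hr : PP (Nat.card F) e r) (he : 2 ≤ e) (hn : finrank F V < 2 * e)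
    (hxr : x ^ r = 1) (hx1 : x ≠ 1) : finrank F (fx (x : Module.End F V)) + e = finrank F V := by
  have := Fact.mk hr.prime
  have h0 := hr.ne0 (F := F) (by omega)
  have hp := coe_pow_one hxr
  have h1 : e ∣ finrank F (cm (x : Module.End F V)) := by
    rw [← ord_eq hr]
    exact H951.ord_dvd_finrank hp H951.inv_cm (H951.inf_fx_of_le_cm h0 hp le_rfl)
  have h2 : finrank F (cm (x : Module.End F V)) ≤ finrank F V := Submodule.finrank_le _
  have h3 : finrank F (cm (x : Module.End F V)) ≠ 0 := fun h => cm_ne_bot (coe_ne_one hx1) (Submodule.finrank_eq_zero.1 h)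
  have h4 := rank_nul (x : Module.End F V)
  obtain ⟨A, hA⟩ := h1
  have hA1 : A = 1 := by
    have h4 : A < 2 := by
      by_contra hcon
      push Not at hcon
      have := Nat.mul_le_mul_left e hcon
      omega
    have h5 : A ≠ 0 := by rintro rfl; omega
    omega
  rw [hA1, mul_one] at hA
  omega

/-- the average of `Q` over `⟨x⟩` -/
noncomputable def avg (Q : QuadraticForm F V) (x : V ≃ₗ[F] V) (r : ℕ) : QuadraticForm F V :=
  ∑ i ∈ Finset.range r, Q.comp ((x ^ i : V ≃ₗ[F] V) : V →ₗ[F] V)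

theorem avg_apply (x : V ≃ₗ[F] V) (r : ℕ) (v : V) : avg Q x r v = ∑ i ∈ Finset.range r, Q ((x ^ i) v) := by
  unfold avg
  rw [QuadraticMap.sum_apply]
  rfl

theorem avg_inv {x : V ≃ₗ[F] V} {r : ℕ} (hxr : x ^ r = 1) (v : V) : avg Q x r (x v) = avg Q x r v := by
  rw [avg_apply, avg_apply]
  have h1 : ∀ i, Q ((x ^ i) (x v)) = Q ((x ^ (i + 1)) v) := by
    intro i
    rw [pow_succ]
    rfl
  rw [Finset.sum_congr rfl fun i _ => h1 i]
  have h2 := Finset.sum_range_succ (fun i => Q ((x ^ i) v)) r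
  have h3 := Finset.sum_range_succ' (fun i => Q ((x ^ i) v)) r
  rw [h2, hxr] at h3
  have h4 : Q ((1 : V ≃ₗ[F] V) v) = Q ((x ^ 0) v) := by rw [pow_zero]
  rw [h4] at h3
  exact (add_right_cancel h3).symm

theorem polar_pow {x : V ≃ₗ[F] V} (hx : ∀ u v, polar Q (x u) (x v) = polar Q u v) (i : ℕ) (u v : V) :
    polar Q ((x ^ i) u) ((x ^ i) v) = polar Q u v := by
  induction i with
  | zero => rfl
  | succ i ih =>
    rw [pow_succ']
    change polar Q (x ((x ^ i) u)) (x ((x ^ i) v)) = _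
    rw [hx, ih]

theorem polar_avg {x : V ≃ₗ[F] V} (hx : ∀ u v, polar Q (x u) (x v) = polar Q u v) (r : ℕ) (u v : V) :
    polar (avg Q x r) u v = (r : F) * polar Q u v := by
  have h1 : polar (avg Q x r) u v = ∑ i ∈ Finset.range r, polar Q ((x ^ i) u) ((x ^ i) v) := by
    simp only [polar, avg_apply, map_add, Finset.sum_sub_distrib]
  rw [h1, Finset.sum_congr rfl fun i _ => polar_pow hx i u v, Finset.sum_const, Finset.card_range, nsmul_eq_mul]

theorem nondeg_avg (hQ : Nondeg Q) {x : V ≃ₗ[F] V} (hx : ∀ u v, polar Q (x u) (x v) = polar Q u v) {r : ℕ}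
    (h0 : (r : F) ≠ 0) : Nondeg (avg Q x r) := by
  intro u hu
  refine hQ u fun v => ?_
  have h1 := hu v
  rw [polar_avg hx] at h1
  exact (mul_eq_zero.1 h1).resolve_left h0

/-- (T16.2) characteristic two, symplectic: average `Q` over `⟨x⟩` to get an invariant quadratic form with the same polar form -/
theorem fx_odd (_h2 : (2 : F) = 0) (hQ : Nondeg Q) {x : V ≃ₗ[F] V} (hx : ∀ u v, polar Q (x u) (x v) = polar Q u v)
    {e r : ℕ} (hr : PP (Nat.card F) e r) (he : Odd e) (he3 : 3 ≤ e) (hn : finrank F V < 4 * e)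
    (hxr : x ^ r = 1) (hx1 : x ≠ 1) : finrank F (fx (x : Module.End F V)) + 2 * e = finrank F V := by
  have h0 := hr.ne0 (F := F) (by omega)
  have hI : Iso (avg Q x r) (x : Module.End F V) r :=
    Iso.mk' hr (by omega) (coe_pow_one hxr) (fun v => avg_inv hxr v)
  have h1 := (hI.odd_case (nondeg_avg hQ hx h0) (coe_ne_one hx1) hr he hn).1
  have h4 := rank_nul (x : Module.End F V)
  omega

theorem AExt.mono {s : ℕ} {H' : Subgroup (V ≃ₗ[F] V)} (hle : H' ≤ H) (h : AExt s H) : AExt s H' := by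
  obtain ⟨n, φ, K, hs, hK, hN⟩ := h
  exact ⟨n, φ, K, hs, hK, (Subgroup.map_mono hle).trans hN⟩

/-- (T16.3') the same for isometries, any characteristic -/
theorem o_not_two_odd (hQ : Nondeg Q) (hH : H ≤ O Q)
    {e r : ℕ} (hr : PP (Nat.card F) e r) (he : Odd e) (he3 : 3 ≤ e) (hn : finrank F V < 4 * e) (hrH : r ∣ Nat.card H)
    (hA : AExt 2 H) : False := by
  obtain ⟨n, φ, K, -, hK, hle⟩ := hA
  have hn' := finrank_of_equiv φ
  have hc : Nat.card (H.map (cj φ).toMonoidHom) = Nat.card H := Subgroup.card_map_of_injective (cj φ).injective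
  refine no_quadratic_field (nondeg_tq hQ φ) (H := H.map (cj φ).toMonoidHom) ?_ hr he he3
    (by rw [Fintype.card_fin]; omega) (by rw [hc]; exact hrH) hK hle
  rintro _ ⟨x, hx, rfl⟩
  exact cj_iso φ (hH hx)

/-- (T16.3) -/
theorem sp_not_two_odd (_h2 : (2 : F) = 0) (hQ : Nondeg Q) (hH : ∀ h ∈ H, ∀ u v, polar Q (h u) (h v) = polar Q u v)
    {e r : ℕ} (hr : PP (Nat.card F) e r) (he : Odd e) (he3 : 3 ≤ e) (hn : finrank F V < 4 * e) (hrH : r ∣ Nat.card H)
    (hA : AExt 2 H) : False := by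
  have hV : Finite V := Module.finite_of_finite F
  have hfin : Finite (V ≃ₗ[F] V) := Finite.of_injective (fun g : V ≃ₗ[F] V => (g : V → V)) DFunLike.coe_injective
  have := Fact.mk hr.prime
  obtain ⟨x, hx⟩ := exists_prime_orderOf_dvd_card' r hrH
  have hxr : (x : V ≃ₗ[F] V) ^ r = 1 := by
    rw [← Subgroup.coe_pow, ← hx, pow_orderOf_eq_one]; rfl
  have hox : orderOf (x : V ≃ₗ[F] V) = r := by rw [Subgroup.orderOf_coe, hx]
  have h0 := hr.ne0 (F := F) (by omega)
  have hxp := hH x x.2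
  have hle : Subgroup.zpowers (x : V ≃ₗ[F] V) ≤ H := Subgroup.zpowers_le.2 x.2
  refine o_not_two_odd (H := Subgroup.zpowers (x : V ≃ₗ[F] V)) (nondeg_avg hQ hxp h0) ?_ hr he he3 hn
    (by rw [Nat.card_zpowers, hox]) (AExt.mono hle hA)
  rw [Subgroup.zpowers_le]
  exact mem_O.2 fun v => avg_inv hxr v

/-- (T16.4) two parities (`no_field2_gen`), `dim V = j` -/
theorem sp_not_two (hQ : Nondeg Q) (hH : ∀ h ∈ H, ∀ u v, polar Q (h u) (h v) = polar Q u v)
    {j k r s : ℕ} (hr : PP (Nat.card F) j r) (hs : PP (Nat.card F) k s) (hn : finrank F V < 2 * j) (hn' : finrank F V < 2 * k)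
    (hirr : ∀ W : Submodule F V, (∀ h ∈ H, ∀ w ∈ W, h w ∈ W) → W = ⊥ ∨ W = ⊤)
    (hj : Even j) (hk : Even k) (hj2 : 2 ≤ j) (hk2 : 2 ≤ k) (hpar : Odd (j / 2 + k / 2)) (hrH : r ∣ Nat.card H)
    (hsH : s ∣ Nat.card H) (hA : AExt 2 H) : False := by
  obtain ⟨n, φ, K, -, hK, hle⟩ := hA
  have hd := finrank_of_equiv φ
  have hc : Nat.card (H.map (cj φ).toMonoidHom) = Nat.card H := Subgroup.card_map_of_injective (cj φ).injective
  have hnd : (polarBilin (tq Q φ)).Nondegenerate := by
    have h1 := nondeg_tq hQ φ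
    refine ⟨fun u hu => h1 u hu, fun u hu => h1 u fun w => ?_⟩
    have := hu w
    rw [polar_comm]
    exact this
  refine no_field2_gen (H := H.map (cj φ).toMonoidHom) (B := polarBilin (tq Q φ)) ?_ hnd ?_ hr hs hj hk
    (by rw [Fintype.card_fin]; omega) (by rw [Fintype.card_fin]; omega) hj2 hk2 hpar (by rw [hc]; exact hrH)
    (by rw [hc]; exact hsH) hK hle
  · intro W hW
    have h1 := hirr (W.comap (φ : V →ₗ[F] (Fin n → F))) (fun h hh w hw => by
      have h2 := hW (cj φ h : Matrix (Fin n) (Fin n) F) ⟨cj φ h, ⟨h, hh, rfl⟩, rfl⟩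
      have h3 := h2 ⟨φ w, hw, rfl⟩
      rw [Matrix.toLin'_apply, cj_apply'] at h3
      exact h3)
    rcases h1 with h1 | h1
    · left
      rw [eq_bot_iff]
      intro w hw
      have h2 : φ.symm w ∈ W.comap (φ : V →ₗ[F] (Fin n → F)) := by
        change φ (φ.symm w) ∈ W
        rw [φ.apply_symm_apply]; exact hw
      rw [h1, Submodule.mem_bot] at h2
      rw [Submodule.mem_bot, ← φ.apply_symm_apply w, h2, map_zero]
    · right
      rw [eq_top_iff]
      intro w _
      have h2 : φ.symm w ∈ W.comap (φ : V →ₗ[F] (Fin n → F)) := by rw [h1]; trivial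
      have h3 : φ (φ.symm w) ∈ W := h2
      rwa [φ.apply_symm_apply] at h3
  · rintro _ ⟨h, hh, rfl⟩ u w
    change polar (tq Q φ) _ _ = polar (tq Q φ) _ _
    rw [polar_tq, polar_tq]
    change polar Q (φ.symm ((cj φ h : Matrix (Fin n) (Fin n) F) *ᵥ u)) (φ.symm ((cj φ h : Matrix (Fin n) (Fin n) F) *ᵥ w)) = _
    rw [cj_apply, cj_apply, φ.symm_apply_apply, φ.symm_apply_apply]
    exact hH h hh _ _

/-- (T16.5) primes of `Ω(Q)` -/
theorem E_dvd (hQ : Nondeg Q) (hn : 5 ≤ finrank F V) (hev : Even (finrank F V)) {e t : ℕ} (ht : PP (Nat.card F) e t)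
    (he : Even e) (he2 : 2 ≤ e) (hen : e < finrank F V) : t ∣ Nat.card (E Q) := by
  have := Fact.mk ht.prime
  have hlt := ht.lt (by omega)
  have ho := ord_eq ht
  obtain ⟨T, hT, hTr, hT1, -, -⟩ := exists_sharp (Q := Q) (r := t) (by omega) (ht.ne0 (by omega))
    (by rw [ho]; exact he) hQ (A := 1) le_rfl (Or.inl ⟨hev, Or.inl (by rw [ho, mul_one]; exact hen)⟩)
  have hE : T ∈ E Q := H587.KB8.mem_E_of_odd (LieClassical.OrthFinite.good_of_finite hQ hn) hT (ht.odd he2) hTr
  have ho : orderOf T = t := orderOf_eq_prime hTr hT1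
  rw [← ho, ← Subgroup.orderOf_mk T hE]
  exact orderOf_dvd_natCard _

end abs

end Cfsg.Agent.H522.Rg
end

-- part: H655/Rg/KExt
section
prune_inst 0x24040022000000008000100000001c0000000040080080020800080080420000000004000012100200801000002001100000421000000a000400000000000080000020000000000006800080000000000000000000000000000000010000000000000
set_option linter.all false
open scoped Cfsg.Agent.FastGrp

-- part: H655/Rg/Ord
section
/-!
# S3691: primes dividing the orders of overgroups of classical groups (helper655)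

`PP (card E) e t`: `t` divides the order of a group containing `SL_m`, all isometries of a symplectic form, `Ω(Q)`;
`PP q (2 j) t`, `j` odd, `card E = q ^ 2` : the same for the isometries of determinant one of a unitary form.
-/

set_option autoImplicit false

namespace Cfsg.Agent.H655.Rg

open Cfsg Cfsg.Geo Cfsg.Agent.H884.El
open scoped MatrixGroups Matrix

universe u

variable {E : Type u} [Field E] [Fintype E] {m : ℕ} {H : Subgroup (GL (Fin m) E)} {t e : ℕ}

omit [Fintype E] in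
/-- an injective homomorphism with values in `H` -/
theorem dvd_of_hom {G : Type*} [Group G] (φ : G →* GL (Fin m) E) (hφ : Function.Injective φ)
    (hmem : ∀ x, φ x ∈ H) (h : t ∣ Nat.card G) : t ∣ Nat.card H := by
  refine h.trans (Subgroup.card_dvd_of_injective (φ.codRestrict H hmem) fun x y hxy => hφ ?_)
  exact congrArg (fun z : H => (z : GL (Fin m) E)) hxy

theorem sl_dvd (ht : PP (Nat.card E) e t) (he : 3 ≤ e) (hem : e ≤ m) (hle : specialLinear (Fin m) E ≤ H) :
    t ∣ Nat.card H := by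
  have h1 : t ∣ Nat.card (Matrix.SpecialLinearGroup (Fin m) E) := by
    have h0 := S0242.result (F := E) rfl m (by omega)
    rw [← Nat.card_eq_fintype_card] at h0
    have h1 : t ∣ ∏ i : Fin m, (Nat.card E ^ m - Nat.card E ^ (i : ℕ)) := by
      refine dvd_trans ?_ (Finset.dvd_prod_of_mem _ (Finset.mem_univ (⟨m - e, by omega⟩ : Fin m)))
      have h2 : Nat.card E ^ m - Nat.card E ^ (m - e) = Nat.card E ^ (m - e) * (Nat.card E ^ e - 1) := by
        rw [Nat.mul_sub, mul_one, ← pow_add, Nat.sub_add_cancel hem]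
      show t ∣ Nat.card E ^ m - Nat.card E ^ (m - e)
      rw [h2]
      exact ((ht.dvd_iff Nat.card_pos e).2 dvd_rfl).mul_left _
    rw [← h0] at h1
    rcases (Nat.Prime.dvd_mul ht.prime).1 h1 with h | h
    · have h3 := (ht.dvd_iff Nat.card_pos 1).1 (by rw [pow_one]; exact h)
      have := Nat.le_of_dvd (by norm_num) h3
      omega
    · exact h
  exact dvd_of_hom (Matrix.SpecialLinearGroup.toGL) Matrix.SpecialLinearGroup.toGL_injective
    (fun x => hle ((H905.mem_sl_iff _).2 x.2)) h1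

omit [Fintype E] in
theorem stdForm_eq (k : ℕ) (u v : Fin k ⊕ Fin k → E) : H953.stdForm k E u v = - sympForm k E u v := by
  unfold H953.stdForm
  rw [ClassicalGeometry.SympBasic.sympForm_eq_sum, ← Finset.sum_neg_distrib]
  exact Finset.sum_congr rfl fun i _ => by ring

omit [Fintype E] in
theorem reindex_mulVec {k : ℕ} (ε : Fin k ⊕ Fin k ≃ Fin m) (A : GL (Fin k ⊕ Fin k) E) (u : Fin m → E) :
    (((glReindex ε A : GL (Fin m) E) : Matrix (Fin m) (Fin m) E) *ᵥ u) ∘ ε =
      (A : Matrix (Fin k ⊕ Fin k) (Fin k ⊕ Fin k) E) *ᵥ (u ∘ ε) := by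
  funext i
  change ∑ j : Fin m, (A : Matrix (Fin k ⊕ Fin k) (Fin k ⊕ Fin k) E) (ε.symm (ε i)) (ε.symm j) * u j =
    ∑ j : Fin k ⊕ Fin k, (A : Matrix (Fin k ⊕ Fin k) (Fin k ⊕ Fin k) E) i j * u (ε j)
  rw [← Equiv.sum_comp ε]
  simp only [_root_.Equiv.symm_apply_apply, _root_.Fintype.sum_sum_type]

theorem sp_dvd {f : (Fin m → E) → (Fin m → E) → E} (hf : IsSymplecticForm f) (ht : PP (Nat.card E) e t)
    (he : Even e) (he0 : 2 ≤ e) (hem : e ≤ m)
    (hle : ∀ x : GL (Fin m) E, FixesForm {(x : Matrix (Fin m) (Fin m) E)} f → x ∈ H) : t ∣ Nat.card H := by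
  obtain ⟨k, ε, S, hS⟩ := H953.exists_std hf
  have hk : k + k = m := by
    have := Fintype.card_congr ε
    simpa only [_root_.Fintype.card_sum, _root_.Fintype.card_fin] using this
  have hcard : t ∣ Nat.card (spGL k E) := by
    rw [Nat.card_congr (H16.PSp4.toSymp k E).toEquiv, LieClassical.SympCount.card_symplecticGroup]
    apply Dvd.dvd.mul_left
    obtain ⟨i, hi⟩ := he
    refine dvd_trans ?_ (Finset.dvd_prod_of_mem _ (Finset.mem_range.2 (by omega : i - 1 < k)))
    rw [show 2 * (i - 1 + 1) = e by omega, ← Nat.card_eq_fintype_card]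
    exact (ht.dvd_iff Nat.card_pos e).2 dvd_rfl
  refine dvd_of_hom ((MulAut.conj S).toMonoidHom.comp ((glReindex (F := E) ε).toMonoidHom.comp (spGL k E).subtype))
    ((MulAut.conj S).injective.comp ((glReindex (F := E) ε).injective.comp (Subgroup.subtype_injective _)))
    (fun x => hle _ ?_) hcard
  rintro _ rfl u v
  change f (((S * glReindex ε (x : GL (Fin k ⊕ Fin k) E) * S⁻¹ : GL (Fin m) E) : Matrix (Fin m) (Fin m) E) *ᵥ u)
    (((S * glReindex ε (x : GL (Fin k ⊕ Fin k) E) * S⁻¹ : GL (Fin m) E) : Matrix (Fin m) (Fin m) E) *ᵥ v) = f u v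
  have hx : ∀ u v, sympForm k E (((x : GL (Fin k ⊕ Fin k) E) : Matrix _ _ E) *ᵥ u)
      (((x : GL (Fin k ⊕ Fin k) E) : Matrix _ _ E) *ᵥ v) = sympForm k E u v := fun u v => x.2 u v
  rw [Units.val_mul, Units.val_mul, ← Matrix.mulVec_mulVec, ← Matrix.mulVec_mulVec, ← Matrix.mulVec_mulVec,
    ← Matrix.mulVec_mulVec, hS, stdForm_eq, reindex_mulVec, reindex_mulVec, hx, ← stdForm_eq, ← hS, Matrix.mulVec_mulVec,
    Matrix.mulVec_mulVec, ← Units.val_mul, mul_inv_cancel, Units.val_one, Matrix.one_mulVec, Matrix.one_mulVec]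

theorem om_dvd {Q : (Fin m → E) → E} (hQ : IsNondegenerateQuadraticForm Q) (ht : PP (Nat.card E) e t)
    (he : Even e) (he0 : 2 ≤ e) (hem : e < m) (hm : 5 ≤ m) (h2 : Even m ∨ (2 : E) ≠ 0) (hle : omegaGL Q ≤ H) :
    t ∣ Nat.card H := by
  have hm5 : 5 ≤ Fintype.card (Fin m) := by rw [Fintype.card_fin]; exact hm
  obtain ⟨g, hg, hgt, hg1, -⟩ := exists_g (Q := H884.OmegaGL.bundle Q hQ) (H884.OmegaGL.nondeg_bundle Q hQ)
    ht he he0 (A := 1) le_rfl (by
      rw [Fintype.card_fin, mul_one]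
      rcases h2 with h2 | h2
      · exact Or.inl ⟨h2, Or.inl hem⟩
      · exact Or.inr ⟨h2, hem⟩)
  have hodd : Odd t := ht.odd he0
  have hgO : LieClassical.OrthFinite.glEquiv (Fin m) E g ∈ LieClassical.OrthCore.O (H884.OmegaGL.bundle Q hQ) := by
    intro v
    rw [LieClassical.OrthFinite.glEquiv_apply]
    exact LieClassical.OrthFinite.mem_isometryGroup_iff.1 hg v
  have hgH : g ∈ H := hle ((H884.OmegaGL.mem_omegaGL Q hQ hm5 g).2
    (H587.KB8.mem_E_of_odd (H884.OmegaGL.good_bundle Q hQ hm5) hgO hodd (by rw [← map_pow, hgt, map_one])))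
  have := Fact.mk ht.prime
  have ho : orderOf g = t := orderOf_eq_prime hgt hg1
  rw [← ho, ← Subgroup.orderOf_mk g hgH]
  exact orderOf_dvd_natCard _

theorem su_dvd {q j : ℕ} (hE : Fintype.card E = q ^ 2) {τ : E ≃+* E} {f : (Fin m → E) → (Fin m → E) → E}
    (hf : IsUnitaryForm τ f) (ht : PP q (2 * j) t) (hj : Odd j) (hj3 : 3 ≤ j) (hjm : j ≤ m)
    (hle : ∀ x : GL (Fin m) E, FixesForm {(x : Matrix (Fin m) (Fin m) E)} f →
      Matrix.GeneralLinearGroup.det x = 1 → x ∈ H) : t ∣ Nat.card H := by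
  obtain ⟨q₁, hq₁, hσ⟩ := H895.SLT.unitary_sigma hf.involutive hf.ne_refl
  have hqq : q₁ = q := Nat.pow_left_injective (by norm_num : (2 : ℕ) ≠ 0) (hq₁.symm.trans hE)
  subst hqq
  have hq0 : 1 ≤ q₁ := by
    rcases Nat.eq_zero_or_pos q₁ with h | h
    · exfalso
      rw [h] at hE
      have := Fintype.card_pos (α := E)
      omega
    · exact h
  have hf' : IsUnitaryFormPow q₁ f :=
    ⟨hf.add_left, hf.smul_left, fun v w => by rw [← hσ]; exact hf.herm v w, hf.nondegenerate⟩
  obtain ⟨P, hP⟩ := H956.UnitSim.exists_frame hE hf'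
  have hcard : t ∣ Nat.card (SU m E q₁) := by
    refine H948.UProd.dvd_card_SU hE (i := j - 1) (by omega) (by omega) ?_
    unfold H948.UProd.ph
    rw [if_pos (by obtain ⟨k, hk⟩ := hj; exact ⟨k, by omega⟩), Nat.sub_add_cancel (by omega)]
    have h1 : t ∣ q₁ ^ (2 * j) - 1 := (ht.dvd_iff hq0 _).2 dvd_rfl
    have h2 : q₁ ^ (2 * j) - 1 = (q₁ ^ j + 1) * (q₁ ^ j - 1) := by
      have := Nat.sq_sub_sq (q₁ ^ j) 1
      rw [one_pow, ← pow_mul] at this
      rw [mul_comm 2 j]
      exact this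
    rw [h2] at h1
    rcases (ht.prime.dvd_mul).1 h1 with h | h
    · exact h
    · exfalso
      have h3 := (ht.dvd_iff hq0 j).1 h
      have := Nat.le_of_dvd (by omega) h3
      omega
  refine dvd_of_hom ((MulAut.conj P).toMonoidHom.comp (Matrix.SpecialLinearGroup.toGL.comp (SU m E q₁).subtype))
    ((MulAut.conj P).injective.comp (Matrix.SpecialLinearGroup.toGL_injective.comp (Subgroup.subtype_injective _)))
    (fun x => hle _ ?_ ?_) hcard
  · rintro _ rfl u v
    change f (((P * Matrix.SpecialLinearGroup.toGL (x : Matrix.SpecialLinearGroup (Fin m) E) * P⁻¹ : GL (Fin m) E) :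
      Matrix (Fin m) (Fin m) E) *ᵥ u) (((P * Matrix.SpecialLinearGroup.toGL (x : Matrix.SpecialLinearGroup (Fin m) E) * P⁻¹ :
      GL (Fin m) E) : Matrix (Fin m) (Fin m) E) *ᵥ v) = f u v
    have hx : ∀ u v, hermForm m E q₁ (((x : Matrix.SpecialLinearGroup (Fin m) E) : Matrix (Fin m) (Fin m) E) *ᵥ u)
        (((x : Matrix.SpecialLinearGroup (Fin m) E) : Matrix (Fin m) (Fin m) E) *ᵥ v) = hermForm m E q₁ u v := x.2
    rw [Units.val_mul, Units.val_mul, ← Matrix.mulVec_mulVec, ← Matrix.mulVec_mulVec, ← Matrix.mulVec_mulVec,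
      ← Matrix.mulVec_mulVec, hP]
    change hermForm m E q₁ (((x : Matrix.SpecialLinearGroup (Fin m) E) : Matrix (Fin m) (Fin m) E) *ᵥ _)
      (((x : Matrix.SpecialLinearGroup (Fin m) E) : Matrix (Fin m) (Fin m) E) *ᵥ _) = _
    rw [hx, ← hP, Matrix.mulVec_mulVec, Matrix.mulVec_mulVec, ← Units.val_mul, mul_inv_cancel, Units.val_one,
      Matrix.one_mulVec, Matrix.one_mulVec]
  · change Matrix.GeneralLinearGroup.det (P * Matrix.SpecialLinearGroup.toGL (x : Matrix.SpecialLinearGroup (Fin m) E) * P⁻¹) = 1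
    rw [map_mul, map_mul, map_inv, mul_comm _ ((Matrix.GeneralLinearGroup.det P)⁻¹), inv_mul_cancel_left]
    apply Units.ext
    rw [Matrix.GeneralLinearGroup.val_det_apply]
    exact (x : Matrix.SpecialLinearGroup (Fin m) E).2

end Cfsg.Agent.H655.Rg
end

-- part: H655/Rg/KExt
section
/-!
# S3691-T5: groups of isometries normalising a quadratic field (helper655)

`kext_even`, `kext_odd`.
-/

set_option autoImplicit false

namespace Cfsg.Agent.H655.Rg

open Module Cfsg Cfsg.Geo Cfsg.Agent.LieClassical.OrthCore Cfsg.Agent.LieClassical.OrthTrans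
  Cfsg.Agent.H955 Cfsg.Agent.H954.TSing Cfsg.Agent.H884.El Cfsg.Agent.H278.Cov Cfsg.Agent.H449.Reg
open Cfsg.Agent.H951 (fx cm Inv)
open scoped MatrixGroups Matrix

universe u v

section Mat

variable {F : Type u} [Field F] [Fintype F] {n m : ℕ} {K : Subalgebra F (Matrix (Fin n) (Fin n) F)}
  {E : Type u} [Field E] [Fintype E] (φ : Fr K E m) {B : Subgroup (GL (Fin n) F)}

theorem mem_cz [Nonempty (Fin n)] (hK : IsFieldSubalgebra 2 K) (hB : B ≤ subalgebraNormalizer K) {g : GL (Fin n) F}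
    (hg : g ∈ B) (ho : Nat.Coprime (orderOf g) 2) : g ∈ cz K := fun k hk => H906.Cov.commute_of_coprime hK (hB hg) ho k hk

omit [Fintype F] [Fintype E] in
theorem order_lift {g : GL (Fin n) F} (hg : g ∈ cz K) : orderOf (liftHom φ ⟨g, hg⟩) = orderOf g := by
  rw [orderOf_injective _ (lift_injective φ), Subgroup.orderOf_mk]

/-- the list lemma over the field `E` -/
theorem kcore (hP : H659.CovCore.S5948Stmt.{u}) (hK : IsFieldSubalgebra 2 K) (hn : n = 2 * m)
    (hE : Fintype.card E = Fintype.card F ^ 2) (hB : B ≤ subalgebraNormalizer K) {p f r a k : ℕ}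
    (hp : p.Prime) (hf : 1 ≤ f) (hF : Fintype.card F = p ^ f) (hm : 10 ≤ m) (hkm : k ≤ m) (hmk : m < 2 * k)
    (hr : PP p (2 * f * k) r) {g : GL (Fin n) F} (hg : g ∈ B) (ho : orderOf g = r ^ a) (hbig : 2 * k + 1 < r ^ a)
    (hdvd : r ^ a ∣ (p ^ (2 * f)) ^ k - 1) (hirr : ¬ Red (low φ B)) :
    _root_.Cfsg.Agent.H278.Cov.Ext (Nat.gcd m k) (low φ B) ∨
    specialLinear (Fin m) E ≤ low φ B ∨
    (∃ f : (Fin m → E) → (Fin m → E) → E, IsSymplecticForm f ∧
        ∀ x : GL (Fin m) E, FixesForm {(x : Matrix (Fin m) (Fin m) E)} f → x ∈ low φ B) ∨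
    (∃ (τ : E ≃+* E) (f : (Fin m → E) → (Fin m → E) → E), IsUnitaryForm τ f ∧
        ∀ x : GL (Fin m) E, FixesForm {(x : Matrix (Fin m) (Fin m) E)} f → Matrix.GeneralLinearGroup.det x = 1 →
          x ∈ low φ B) ∨
    (∃ Q : (Fin m → E) → E, IsNondegenerateQuadraticForm Q ∧ omegaGL Q ≤ low φ B) := by
  have hne : Nonempty (Fin n) := ⟨⟨0, by omega⟩⟩
  have h1 : 1 ≤ 2 * f * k := Nat.mul_pos (by omega) (by omega)
  have hr2 : r ≠ 2 := by
    have := hr.lt h1
    have h3 : 2 * 1 * 6 ≤ 2 * f * k := Nat.mul_le_mul (Nat.mul_le_mul_left 2 hf) (by omega)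
    omega
  have hco : Nat.Coprime (orderOf g) 2 := by
    rw [ho]
    exact Nat.Coprime.pow_left a ((Nat.coprime_primes hr.prime Nat.prime_two).2 hr2)
  have hgz := mem_cz hK hB hg hco
  have hnum := num_of (n := m) hp (by omega : 1 ≤ 2 * f) hr hm hkm hmk hbig hdvd
  have hcE : Fintype.card E = p ^ (2 * f) := by rw [hE, hF, ← pow_mul, mul_comm]
  have h2 := H659.CovCore.core hP (ι := Fin m) (F := E) (k := k) (mem_low φ hgz hg)
    (by rw [order_lift, ho, hcE, Fintype.card_fin]; exact hnum) hirr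
  rwa [Fintype.card_fin] at h2

omit [Fintype F] in
theorem toLin_pow {x : GL (Fin n) F} {r : ℕ} (hxr : x ^ r = 1) :
    (Matrix.toLin' (x : Matrix (Fin n) (Fin n) F)) ^ r = 1 := by
  have h1 := congrArg (fun y : GL (Fin n) F => Matrix.toLin' (y : Matrix (Fin n) (Fin n) F)) hxr
  simp only [Units.val_pow_eq_pow_val, Units.val_one, Matrix.toLin'_one] at h1
  rw [Matrix.toLin'_pow] at h1
  exact h1

omit [Fintype F] in
theorem toLin_ne {x : GL (Fin n) F} (hx1 : x ≠ 1) : Matrix.toLin' (x : Matrix (Fin n) (Fin n) F) ≠ 1 := by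
  intro h
  apply hx1
  apply Units.ext
  apply Matrix.toLin'.injective
  rw [h, Units.val_one, Matrix.toLin'_one]
  rfl

omit [Fintype F] [Fintype E] in
theorem even_pull (hK : IsFieldSubalgebra 2 K) [Nonempty (Fin n)] (U : Submodule E (Fin m → E)) :
    2 ∣ finrank F (pull φ U) :=
  H906.Cov.dvd_finrank_of_invariant hK _ fun _ hx _ hv => pull_stable φ hx hv

omit [Fintype E] in
theorem not_red_odd (hn0 : 0 < n) {r : ℕ} {x : GL (Fin n) F} (hxB : x ∈ B) (hxz : x ∈ cz K) (hxr : x ^ r = 1)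
    (hx1 : x ≠ 1) (hr : PP (Nat.card F) n r) : ¬ Red (low φ B) := by
  rintro ⟨U, hU0, hU1, hU⟩
  rcases inv_all hr hn0 (toLin_pow hxr) (toLin_ne hx1) (by rw [Module.finrank_fintype_fun_eq_card, Fintype.card_fin])
    (U := pull φ U) (fun w hw => by rw [Matrix.toLin'_apply]; exact pull_inv φ hU hxz hxB hw) with h | h
  · exact pull_ne_bot φ hU0 h
  · exact pull_ne_top φ hU1 h

omit [Fintype E] in
theorem not_red_even (hK : IsFieldSubalgebra 2 K) (hB : B ≤ subalgebraNormalizer K) {r e : ℕ} (hne : n = e + 2)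
    (he : Even e) (he2 : 2 < e) {x : GL (Fin n) F} (hxB : x ∈ B) (hxz : x ∈ cz K) (hxr : x ^ r = 1)
    (hx1 : x ≠ 1) (hr : PP (Nat.card F) e r)
    (hirr : ∀ U : Submodule F (Fin n → F), (∀ b ∈ B, ∀ u ∈ U, (b : Matrix (Fin n) (Fin n) F) *ᵥ u ∈ U) →
      U = ⊥ ∨ U = ⊤) : ¬ Red (low φ B) := by
  have hn1 : Nonempty (Fin n) := ⟨⟨0, by omega⟩⟩
  rintro ⟨U, hU0, hU1, hU⟩
  obtain ⟨hf1, hc1, hcases⟩ := inv_cases hr he he2 (toLin_pow hxr) (toLin_ne hx1)
    (by rw [Module.finrank_fintype_fun_eq_card, Fintype.card_fin, hne])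
  have hinv : _root_.Cfsg.Agent.H951.Inv (Matrix.toLin' (x : Matrix (Fin n) (Fin n) F)) (pull φ U) := fun w hw => by
    rw [Matrix.toLin'_apply]; exact pull_inv φ hU hxz hxB hw
  have hP := hcases _ hinv (even_pull φ hK U) (pull_ne_bot φ hU0) (pull_ne_top φ hU1)
  have hkey : ∀ b ∈ B, ∀ u ∈ pull φ U, (b : Matrix (Fin n) (Fin n) F) *ᵥ u ∈ pull φ U := by
    intro b hb u hu
    -- the image under `b`
    let T : Submodule F (Fin n → F) := (pull φ U).map (Matrix.toLin' (b : Matrix (Fin n) (Fin n) F))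
    have hb1 : (b : Matrix (Fin n) (Fin n) F) * ((b⁻¹ : GL (Fin n) F) : Matrix (Fin n) (Fin n) F) = 1 := by
      rw [← Units.val_mul, mul_inv_cancel, Units.val_one]
    have hb2 : ((b⁻¹ : GL (Fin n) F) : Matrix (Fin n) (Fin n) F) * (b : Matrix (Fin n) (Fin n) F) = 1 := by
      rw [← Units.val_mul, inv_mul_cancel, Units.val_one]
    have hinj : Function.Injective (Matrix.toLin' (b : Matrix (Fin n) (Fin n) F)) := by
      intro v w hvw
      rw [Matrix.toLin'_apply, Matrix.toLin'_apply] at hvw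
      have := congrArg (fun z => ((b⁻¹ : GL (Fin n) F) : Matrix (Fin n) (Fin n) F) *ᵥ z) hvw
      simpa only [Matrix.mulVec_mulVec, hb2, Matrix.one_mulVec] using this
    have hdim : finrank F T = finrank F (pull φ U) :=
      (Submodule.equivMapOfInjective _ hinj _).finrank_eq.symm
    have hT0 : T ≠ ⊥ := by
      intro h
      have h1 : finrank F T = 0 := by rw [h, finrank_bot]
      rw [hdim] at h1
      exact pull_ne_bot φ hU0 (Submodule.finrank_eq_zero.1 h1)
    have hT1 : T ≠ ⊤ := by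
      intro h
      rw [h, finrank_top] at hdim
      exact pull_ne_top φ hU1 (Submodule.eq_top_of_finrank_eq hdim.symm)
    -- `b⁻¹ x b` centralises `K`
    have hcz : b⁻¹ * x * b ∈ cz K := by
      intro k hk
      have h1 := hxz _ ((hB hb k).1 hk)
      rw [Units.val_mul, Units.val_mul]
      calc ((b⁻¹ : GL (Fin n) F) : Matrix (Fin n) (Fin n) F) * x * b * k
          = ((b⁻¹ : GL (Fin n) F) : Matrix (Fin n) (Fin n) F) * (x * ((b : Matrix (Fin n) (Fin n) F) * k *
              ((b⁻¹ : GL (Fin n) F) : Matrix (Fin n) (Fin n) F))) * b := by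
            simp only [mul_assoc, hb2, mul_one]
        _ = (((b⁻¹ : GL (Fin n) F) : Matrix (Fin n) (Fin n) F) * b) * k *
              (((b⁻¹ : GL (Fin n) F) : Matrix (Fin n) (Fin n) F) * x * b) := by
            rw [h1]; simp only [mul_assoc]
        _ = k * (((b⁻¹ : GL (Fin n) F) : Matrix (Fin n) (Fin n) F) * x * b) := by rw [hb2, one_mul]
    have hTinv : _root_.Cfsg.Agent.H951.Inv (Matrix.toLin' (x : Matrix (Fin n) (Fin n) F)) T := by
      rintro _ ⟨w, hw, rfl⟩
      refine ⟨((b⁻¹ * x * b : GL (Fin n) F) : Matrix (Fin n) (Fin n) F) *ᵥ w,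
        pull_inv φ hU hcz (B.mul_mem (B.mul_mem (B.inv_mem hb) hxB) hb) hw, ?_⟩
      rw [Matrix.toLin'_apply, Matrix.toLin'_apply, Matrix.toLin'_apply, Matrix.mulVec_mulVec, Matrix.mulVec_mulVec,
        Units.val_mul, Units.val_mul, ← mul_assoc, ← mul_assoc, hb1, one_mul]
    have hTeven : 2 ∣ finrank F T := by rw [hdim]; exact even_pull φ hK U
    have hT := hcases T hTinv hTeven hT0 hT1
    have hTU : T = pull φ U := by
      rcases hT with h | h <;> rcases hP with h' | h'
      · rw [h, h']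
      · exfalso
        rw [h, h', hf1, hc1] at hdim
        omega
      · exfalso
        rw [h, h', hf1, hc1] at hdim
        omega
      · rw [h, h']
    rw [← hTU]
    exact ⟨u, hu, Matrix.toLin'_apply _ _⟩
  rcases hirr (pull φ U) hkey with h | h
  · exact pull_ne_bot φ hU0 h
  · exact pull_ne_top φ hU1 h

theorem not_ext_odd {h t : ℕ} (hh : 2 ≤ h) (hm : m = 2 * h + 1) (ht : PP (Nat.card E) h t) (hmt : m - 1 < t) (htm : t ≠ m)
    {H : Subgroup (GL (Fin m) E)} {z : GL (Fin m) E} (hz : z ∈ H) (hzo : orderOf z = t) (hExt : _root_.Cfsg.Agent.H278.Cov.Ext m H) : False := by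
  obtain ⟨s, M, hs, hsm, hM, hle⟩ := hExt
  have hts : t ≠ s := by
    rintro rfl
    have := Nat.le_of_dvd (by omega) hsm
    omega
  have h1 := H906.Cov.ext_dvd hs hM (hle hz) (by rw [hzo]; exact (Nat.coprime_primes ht.prime hs).2 hts) (Polynomial.X - 1)
  rw [map_sub, Polynomial.aeval_X, map_one] at h1
  have hz1 : z ≠ 1 := by
    rintro rfl
    rw [orderOf_one] at hzo
    exact ht.prime.one_lt.ne hzo
  have hpow := toLin_pow (x := z) (r := t) (by rw [← hzo, pow_orderOf_eq_one])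
  have h2 := H951.finrank_fx_add_cm (ne0 ht (by omega)) hpow
  rw [Module.finrank_fintype_fun_eq_card, Fintype.card_fin] at h2
  have h3 := dvd_cm ht (by omega) hpow
  have h4 := cm_pos ((toLin_ne hz1 :))
  have h5 : s ∣ finrank E (cm (Matrix.toLin' (z : Matrix (Fin m) (Fin m) E))) := by
    have h6 : s ∣ finrank E (fx (Matrix.toLin' (z : Matrix (Fin m) (Fin m) E))) := h1
    exact (Nat.dvd_add_right h6).1 (by rw [h2]; exact hsm)
  have h7 : finrank E (cm (Matrix.toLin' (z : Matrix (Fin m) (Fin m) E))) ∣ 2 * h := by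
    obtain ⟨A, hA⟩ := h3
    rw [hA] at h2 h4 ⊢
    have hA2 : A < 3 := by
      by_contra hcon
      push Not at hcon
      have := Nat.mul_le_mul_left h hcon
      (clear * - hh hm h2 this; omega)
    have hA0 : A ≠ 0 := by rintro rfl; omega
    interval_cases A
    · exact absurd rfl hA0
    · exact ⟨2, by ring⟩
    · exact ⟨1, by ring⟩
  have h8 : s ∣ 1 := (Nat.dvd_add_right (h5.trans h7)).1 (by rw [← hm]; exact hsm)
  exact hs.one_lt.ne' (Nat.dvd_one.1 h8)

end Mat

section Main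

variable {F : Type u} [Field F] [Fintype F] {V : Type v} [AddCommGroup V] [Module F V] [FiniteDimensional F V]
  {Q : QuadraticForm F V} {A : Subgroup (V ≃ₗ[F] V)}

/-- an element of prime order from an element of order `r ^ a` -/
theorem exists_prime_pow {G : Type*} [Group G] {B : Subgroup G} {g : G} (hg : g ∈ B) {r a : ℕ} (hr : r.Prime)
    (ho : orderOf g = r ^ a) (ha : 1 < r ^ a) : ∃ x ∈ B, x ^ r = 1 ∧ x ≠ 1 ∧ ∃ k : ℕ, x = g ^ k := by
  have ha0 : a ≠ 0 := by
    rintro rfl
    rw [pow_zero] at ha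
    omega
  obtain ⟨b, rfl⟩ : ∃ b, a = b + 1 := ⟨a - 1, by omega⟩
  refine ⟨g ^ r ^ b, B.pow_mem hg _, ?_, ?_, _, rfl⟩
  · rw [← pow_mul, ← pow_succ, ← ho, pow_orderOf_eq_one]
  · intro h
    have h1 := orderOf_dvd_of_pow_eq_one h
    rw [ho] at h1
    have h2 := Nat.le_of_dvd (pow_pos hr.pos b) h1
    have h3 : r ^ b < r ^ (b + 1) := Nat.pow_lt_pow_right hr.one_lt (by omega)
    omega

omit [Fintype F] [FiniteDimensional F V] in
theorem irr_mat {n : ℕ} (φ₀ : V ≃ₗ[F] (Fin n → F))
    (hirr : ∀ W : Submodule F V, (∀ a ∈ A, ∀ w ∈ W, a w ∈ W) → W = ⊥ ∨ W = ⊤) :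
    ∀ U : Submodule F (Fin n → F), (∀ b ∈ A.map (cj φ₀).toMonoidHom, ∀ u ∈ U, (b : Matrix (Fin n) (Fin n) F) *ᵥ u ∈ U) →
      U = ⊥ ∨ U = ⊤ := by
  intro U hU
  have hkey : ∀ a ∈ A, ∀ w ∈ U.comap (φ₀ : V →ₗ[F] (Fin n → F)), a w ∈ U.comap (φ₀ : V →ₗ[F] (Fin n → F)) := by
    intro a ha w hw
    have h1 := hU (cj φ₀ a) ⟨a, ha, rfl⟩ (φ₀ w) hw
    rw [cj_apply'] at h1
    exact h1
  rcases hirr (U.comap (φ₀ : V →ₗ[F] (Fin n → F))) hkey with h | h
  · left
    rw [Submodule.eq_bot_iff]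
    intro u hu
    have h1 : φ₀.symm u ∈ U.comap (φ₀ : V →ₗ[F] (Fin n → F)) := by
      change φ₀ (φ₀.symm u) ∈ U
      rwa [φ₀.apply_symm_apply]
    rw [h, Submodule.mem_bot] at h1
    rw [← φ₀.apply_symm_apply u, h1, map_zero]
  · right
    rw [eq_top_iff]
    intro u _
    have h1 : φ₀.symm u ∈ U.comap (φ₀ : V →ₗ[F] (Fin n → F)) := by rw [h]; trivial
    have h2 : φ₀ (φ₀.symm u) ∈ U := h1
    rwa [φ₀.apply_symm_apply] at h2

/-- a nondegenerate quadratic form in odd dimension -/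
theorem two_ne_zero_of_odd {E : Type u} [Field E] [Finite E] {m : ℕ} (hm : Odd m) {Q : (Fin m → E) → E}
    (hQ : IsNondegenerateQuadraticForm Q) : (2 : E) ≠ 0 := by
  intro h2
  have h3 : ∀ x : E, x + x = 0 := fun x => by rw [← two_mul, h2, zero_mul]
  have hs : IsSymplecticForm (QuadraticMap.polar Q) := by
    refine ⟨hQ.polar_bilinear, fun v w => ?_, fun v => ?_, hQ.nondegenerate⟩
    · rw [eq_neg_iff_add_eq_zero, QuadraticMap.polar_comm Q w v]
      exact h3 _
    · have h4 : Q (v + v) = 4 * Q v := by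
        have := hQ.smul 2 v
        rw [two_smul] at this
        rw [this]; ring
      unfold QuadraticMap.polar
      rw [h4]
      linear_combination (Q v) * h2
  have h5 := H914.even_card_of_symplectic hs
  rw [Fintype.card_fin] at h5
  exact (Nat.not_even_iff_odd.2 hm) h5

end Main

end Cfsg.Agent.H655.Rg
end
end

-- part: H655/Rg/KExt3
section
prune_inst 0x2024046122000000000080110020005c0004b000630800e90008040908c16380422f0006a00210134220a110004060011000094010000000000400400001200082100021000100000000808884000000000000000000000000000000010000000000000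
set_option linter.all false
open scoped Cfsg.Agent.FastGrp

-- part: H655/Rg/KExt2
section
/-!
# S3691-T5: the case `t = m` (helper655)

`kext_odd_sq`: as `kext_odd`, with `t ^ 2 ∣ |A|` in place of `t ≠ m`.
-/

set_option autoImplicit false

namespace Cfsg.Agent.H655.Rg

open Module Cfsg Cfsg.Geo Cfsg.Agent.LieClassical.OrthCore Cfsg.Agent.LieClassical.OrthTrans
  Cfsg.Agent.H955 Cfsg.Agent.H954.TSing Cfsg.Agent.H884.El Cfsg.Agent.H278.Cov Cfsg.Agent.H449.Reg
open Cfsg.Agent.H951 (fx cm Inv)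
open scoped MatrixGroups Matrix

universe u v

section Mat

variable {F : Type u} [Field F] [Fintype F] {n m : ℕ} {K : Subalgebra F (Matrix (Fin n) (Fin n) F)}
  {E : Type u} [Field E] [Fintype E] (φ : Fr K E m) {B : Subgroup (GL (Fin n) F)}

/-- the centraliser of a field has index dividing the degree -/
theorem card_dvd_mul {s : ℕ} (hK : IsFieldSubalgebra s K) [Nonempty (Fin n)] (hB : B ≤ subalgebraNormalizer K) :
    Nat.card B ∣ Nat.card ↥(B ⊓ cz K) * s := by
  let _ : Field K := (H906.Cov.isField_of hK).toField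
  have hfin : Finite K := Module.finite_of_finite F
  have hbij : ∀ b : B, Function.Bijective (H906.Cov.conjE (hB b.2)) := fun b =>
    Finite.injective_iff_bijective.1 (H906.Cov.conjE (hB b.2)).toRingHom.injective
  let ρ : B →* (K ≃ₐ[F] K) :=
    { toFun := fun b => AlgEquiv.ofBijective (H906.Cov.conjE (hB b.2)) (hbij b)
      map_one' := by
        ext y : 2
        change ((1 : GL (Fin n) F) : Matrix (Fin n) (Fin n) F) * y * (((1 : GL (Fin n) F)⁻¹ : GL (Fin n) F) : Matrix (Fin n) (Fin n) F) = y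
        simp
      map_mul' := fun a b => by
        ext y : 2
        change (((a : GL (Fin n) F) * b : GL (Fin n) F) : Matrix (Fin n) (Fin n) F) * y *
          ((((a : GL (Fin n) F) * b)⁻¹ : GL (Fin n) F) : Matrix (Fin n) (Fin n) F) =
          ((a : GL (Fin n) F) : Matrix (Fin n) (Fin n) F) * (((b : GL (Fin n) F) : Matrix (Fin n) (Fin n) F) * y *
            (((b : GL (Fin n) F)⁻¹ : GL (Fin n) F) : Matrix (Fin n) (Fin n) F)) *
            (((a : GL (Fin n) F)⁻¹ : GL (Fin n) F) : Matrix (Fin n) (Fin n) F)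
        rw [mul_inv_rev, Units.val_mul, Units.val_mul]
        simp only [mul_assoc] }
  have hcard : Nat.card (K ≃ₐ[F] K) = s := by
    rw [IsGalois.card_aut_eq_finrank F K, hK.finrank_eq]
  have h1 := Subgroup.card_mul_index ρ.ker
  have h2 : ρ.ker.index ∣ s := by
    rw [Subgroup.index_ker, ← hcard]
    exact Subgroup.card_subgroup_dvd_card ρ.range
  have h3 : Nat.card ρ.ker ∣ Nat.card ↥(B ⊓ cz K) := by
    have hle : ρ.ker.map B.subtype ≤ B ⊓ cz K := by
      rintro _ ⟨b, hb, rfl⟩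
      refine ⟨b.2, fun k hk => ?_⟩
      have h4 : ρ b = 1 := hb
      have h5 := congrArg (fun z : K ≃ₐ[F] K => ((z ⟨k, hk⟩ : K) : Matrix (Fin n) (Fin n) F)) h4
      have h6 : ((b : GL (Fin n) F) : Matrix (Fin n) (Fin n) F) * k *
        (((b : GL (Fin n) F)⁻¹ : GL (Fin n) F) : Matrix (Fin n) (Fin n) F) = k := h5
      calc ((b : GL (Fin n) F) : Matrix (Fin n) (Fin n) F) * k =
          ((b : GL (Fin n) F) : Matrix (Fin n) (Fin n) F) * k *
            ((((b : GL (Fin n) F)⁻¹ : GL (Fin n) F) : Matrix (Fin n) (Fin n) F) * ((b : GL (Fin n) F) : Matrix (Fin n) (Fin n) F)) := by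
            rw [← Units.val_mul, inv_mul_cancel, Units.val_one, mul_one]
        _ = k * ((b : GL (Fin n) F) : Matrix (Fin n) (Fin n) F) := by rw [← mul_assoc, h6]
    rw [← Subgroup.card_map_of_injective (Subgroup.subtype_injective B)]
    exact Subgroup.card_dvd_of_le hle
  rw [← h1]
  exact mul_dvd_mul h3 h2

omit [Fintype F] [Fintype E] in
theorem card_low (B : Subgroup (GL (Fin n) F)) : Nat.card (low φ B) = Nat.card ↥(B ⊓ cz K) := by
  rw [low, Subgroup.card_map_of_injective (lift_injective φ), ← Subgroup.card_map_of_injective (Subgroup.subtype_injective _),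
    Subgroup.subgroupOf_map_subtype]

end Mat

section Main

variable {F : Type u} [Field F] [Fintype F] {V : Type v} [AddCommGroup V] [Module F V]
  {Q : QuadraticForm F V} {A : Subgroup (V ≃ₗ[F] V)}

end Main

end Cfsg.Agent.H655.Rg
end

-- part: H655/Rg/KExt3
section
/-!
# S3691-T5: `kext_odd'` (helper655)
-/

set_option autoImplicit false

namespace Cfsg.Agent.H655.Rg

open Module Cfsg Cfsg.Geo Cfsg.Agent.LieClassical.OrthCore Cfsg.Agent.LieClassical.OrthTrans
  Cfsg.Agent.H955 Cfsg.Agent.H954.TSing Cfsg.Agent.H884.El Cfsg.Agent.H278.Cov Cfsg.Agent.H449.Reg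
open Cfsg.Agent.H951 (fx cm Inv)
open scoped MatrixGroups Matrix

universe u v

/-- the centraliser of a field of degree `m` in `GL_m` -/
theorem card_cz {E : Type u} [Field E] [Fintype E] {m : ℕ} (hm : 0 < m) {M : Subalgebra E (Matrix (Fin m) (Fin m) E)}
    (hM : IsFieldSubalgebra m M) : Nat.card (cz M) ∣ Nat.card E ^ m - 1 := by
  obtain ⟨E', iE', iFE', hE', ⟨φ⟩⟩ := exists_fr hM (m := 1) (by omega) hm one_pos
  have h1 := Subgroup.card_dvd_of_injective (liftHom φ) (lift_injective φ)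
  have h2 : Nat.card (GL (Fin 1) E') = Fintype.card E' - 1 := by
    rw [Matrix.card_GL_field]
    simp
  rwa [h2, hE', ← Nat.card_eq_fintype_card] at h1

theorem card_gammaL {E : Type u} [Field E] [Fintype E] {m : ℕ} (hm : m.Prime) {H : Subgroup (GL (Fin m) E)}
    (hExt : Ext m H) : Nat.card H ∣ (Nat.card E ^ m - 1) * m := by
  obtain ⟨s, M, hs, hsm, hM, hle⟩ := hExt
  have hne : Nonempty (Fin m) := ⟨⟨0, hm.pos⟩⟩
  obtain rfl : s = m := (Nat.prime_dvd_prime_iff_eq hs hm).1 hsm
  exact (card_dvd_mul hM hle).trans (Nat.mul_dvd_mul_right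
    ((Subgroup.card_dvd_of_le inf_le_right).trans (card_cz hm.pos hM)) _)

variable {F : Type u} [Field F] [Fintype F] {V : Type v} [AddCommGroup V] [Module F V]
  {Q : QuadraticForm F V} {A : Subgroup (V ≃ₗ[F] V)}

/-- **(T5b)** groups normalising a quadratic field, `m` odd; for `m` prime a number `N` shows `A ≰ ΓL_1(q ^ (2 m))` -/
theorem kext_odd' (hP : H659.CovCore.S5948Stmt.{u}) {m p f r a : ℕ} (hm : Odd m) (hm11 : 11 ≤ m)
    (hn : finrank F V = 2 * m) (hQ : Nondeg Q) (hA : A ≤ O Q) (hK : AExt 2 A)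
    (hp : p.Prime) (hF : Fintype.card F = p ^ f) (hr : PP p (f * (2 * m)) r)
    {g : V ≃ₗ[F] V} (hg : g ∈ A) (ho : orderOf g = r ^ a) (hbig : 2 * (2 * m) + 1 < r ^ a)
    (hdvd : r ^ a ∣ (p ^ f) ^ (2 * m) - 1)
    {t : ℕ} (ht : PP (p ^ f) (m - 1) t) (htA : t ∣ Nat.card A)
    (hN : m.Prime → ∃ N, N ∣ Nat.card A ∧ N.Coprime ((p ^ f) ^ (2 * m) - 1) ∧ ¬ N ∣ 2 * m) :
    (∀ t, PP (p ^ f) (2 * m - 4) t → t ∣ Nat.card A) ∨ (∀ t, PP (p ^ f) (2 * m - 2) t → t ∣ Nat.card A) := by
  have _ := hQ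
  have _ := hA
  obtain ⟨n, φ₀, K, -, hKf, hle⟩ := hK
  have hn' := finrank_of_equiv φ₀
  have hn2 : n = 2 * m := by omega
  obtain ⟨E, iE, iFE, hE, ⟨φ⟩⟩ := exists_fr hKf hn2 (by norm_num) (by omega)
  have hf : 1 ≤ f := by
    rcases Nat.eq_zero_or_pos f with h | h
    · exfalso
      rw [h, pow_zero] at hF
      have := Fintype.one_lt_card (α := F)
      omega
    · exact h
  set B := A.map (cj φ₀).toMonoidHom with hB
  have hcard : Nat.card B = Nat.card A := Subgroup.card_map_of_injective (cj φ₀).injective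
  have hgB : cj φ₀ g ∈ B := ⟨g, hg, rfl⟩
  have hgo : orderOf (cj φ₀ g) = r ^ a := by rw [MulEquiv.orderOf_eq, ho]
  have hne : Nonempty (Fin n) := ⟨⟨0, by omega⟩⟩
  have hr' : PP p (2 * f * m) r := by
    have : 2 * f * m = f * (2 * m) := by ring
    rw [this]; exact hr
  have hrF : PP (Nat.card F) n r := by
    rw [Nat.card_eq_fintype_card, hF, hn2]
    exact PP.of_pow hr hf
  have hr2 : r ≠ 2 := by
    have := hrF.lt (by omega)
    omega
  obtain ⟨x, hxB, hxr, hx1, k, hk⟩ := exists_prime_pow hgB hr.prime hgo (by omega)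
  have hco : Nat.Coprime (orderOf x) 2 :=
    Nat.Coprime.coprime_dvd_left (orderOf_dvd_of_pow_eq_one hxr) ((Nat.coprime_primes hr.prime Nat.prime_two).2 hr2)
  have hred : ¬ Red (low φ B) := not_red_odd φ (by omega) hxB (mem_cz hKf hle hxB hco) hxr hx1 hrF
  have hdv : ∀ t, t ∣ Nat.card (low φ B) → t ∣ Nat.card A := fun t ht => hcard ▸ ht.trans (card_low_dvd φ B)
  have hPE : ∀ {t j : ℕ}, PP (p ^ f) (2 * j) t → PP (Nat.card E) j t := fun {t j} ht => by
    rw [Nat.card_eq_fintype_card, hE, hF]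
    exact PP.of_pow ht (by norm_num)
  rcases kcore φ hP hKf hn2 hE hle hp hf hF (by omega) (k := m) le_rfl (by omega) hr' hgB hgo (by omega)
    (by rw [← pow_mul] at hdvd ⊢; rw [show 2 * f * m = f * (2 * m) by ring]; exact hdvd) hred with
    h | h | ⟨f', hf', h⟩ | ⟨τ, f', hf', h⟩ | ⟨Q', hQ', h⟩
  · exfalso
    rw [Nat.gcd_self] at h
    obtain ⟨j, hj⟩ := hm
    have htE : PP (Nat.card E) j t := hPE (by rw [show 2 * j = m - 1 by omega]; exact ht)
    have htl := ht.lt (by omega)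
    have := Fact.mk ht.prime
    rcases eq_or_ne t m with htm | htm
    · have hmp : m.Prime := htm ▸ ht.prime
      obtain ⟨N, hNA, hNc, hN2⟩ := hN hmp
      apply hN2
      have h1 := card_gammaL hmp h
      rw [show Nat.card E ^ m = (p ^ f) ^ (2 * m) by rw [Nat.card_eq_fintype_card, hE, hF, ← pow_mul]] at h1
      have h2 : Nat.card B ∣ Nat.card (low φ B) * 2 := by rw [card_low]; exact card_dvd_mul hKf hle
      have h3 : N ∣ Nat.card B := by rw [hcard]; exact hNA
      have h4 := (h3.trans h2).trans (Nat.mul_dvd_mul_right h1 2)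
      rw [mul_assoc, mul_comm m 2] at h4
      exact hNc.dvd_of_dvd_mul_left h4
    · obtain ⟨⟨z, hz⟩, hzo⟩ := exists_prime_orderOf_dvd_card' (G := B) t (by rw [hcard]; exact htA)
      rw [Subgroup.orderOf_mk] at hzo
      have hzc : z ∈ cz K := mem_cz hKf hle hz (by
        rw [hzo]
        exact (Nat.coprime_primes ht.prime Nat.prime_two).2 (by omega))
      exact not_ext_odd (by omega) hj htE htl htm (mem_low φ hzc hz) (by rw [order_lift, hzo]) h
  · left
    intro t ht
    rw [show 2 * m - 4 = 2 * (m - 2) by omega] at ht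
    exact hdv t (sl_dvd (hPE ht) (by omega) (by omega) h)
  · exfalso
    have h5 := H914.even_card_of_symplectic hf'
    rw [Fintype.card_fin] at h5
    exact (Nat.not_even_iff_odd.2 hm) h5
  · left
    intro t ht
    rw [show 2 * m - 4 = 2 * (m - 2) by omega] at ht
    exact hdv t (su_dvd (q := p ^ f) (j := m - 2) (by rw [hE, hF]) hf' ht
      (by obtain ⟨i, hi⟩ := hm; exact ⟨i - 1, by omega⟩) (by omega) (by omega) h)
  · right
    intro t ht
    rw [show 2 * m - 2 = 2 * (m - 1) by omega] at ht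
    exact hdv t (om_dvd hQ' (hPE ht) (by obtain ⟨i, hi⟩ := hm; exact ⟨i, by omega⟩) (by omega) (by omega) (by omega)
      (Or.inr (two_ne_zero_of_odd hm hQ')) h)

end Cfsg.Agent.H655.Rg
end
end

-- part: H449/Reg/Pre
section
prune_inst 0x2024042100000000188080310020044c0004b000630801d92209060906d323a0032f0146a01a121356aaf13043c06001000019421800002a00840040000120048332e62134bd0010000680a886000000000000000000000000000000051000000000000
set_option linter.all false
open scoped Cfsg.Agent.FastGrp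

/-!
# S3691: preimages in `GL` of the factors of a group with socle `PΩ(Q)` (helper449)

`eT : T ≃* PΩ(Q)`, `X ≤ G`:
* `preG eT X` : the group of the matrices in `Ω(Q)` which map into `X ∩ T`
* `mem_preG`, `inv0_iff`, `card_dvd_preG`, `not_omega_le`
* `exists_pow` : elements of prime power order of `preG` from prime powers dividing `|X ∩ T|`, if the Sylow subgroups are cyclic
-/

set_option autoImplicit false
set_option linter.unusedSectionVars false

namespace Cfsg.Agent.H449.Reg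

open Module QuadraticMap Cfsg Cfsg.Geo Cfsg.Agent.LieClassical.OrthCore Cfsg.Agent.LieClassical.OrthTrans
  Cfsg.Agent.ClassicalGeometry.OrthSemi Cfsg.Agent.H454.Reg Cfsg.Agent.H884.El
open Cfsg.Agent.H951 (fx cm Inv)
open Cfsg.Agent.AutOrth.Main (oe pe oe_apply pe_mk)
open scoped MatrixGroups Matrix

universe u v

section

variable {ι : Type} [Fintype ι] [DecidableEq ι] {F : Type v} [Field F] {Q : QuadraticForm F (ι → F)}
variable {G : Type u} [Group G] {T : Subgroup G} [T.Normal]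

/-- the isomorphism onto `E Q / Z(E Q)` -/
noncomputable def eP (hG : Good Q) (eT : T ≃* POmega F (⇑Q)) : T ≃* (↥(E Q) ⧸ Subgroup.center ↥(E Q)) :=
  eT.trans (pe hG)

/-- the preimage in `GL` of `X ∩ T` -/
noncomputable def preG (eT : T ≃* POmega F (⇑Q)) (X : Subgroup G) : Subgroup (GL ι F) :=
  pre (⇑Q) ((X.subgroupOf T).map eT.toMonoidHom)

variable {eT : T ≃* POmega F (⇑Q)} {X : Subgroup G}

theorem mem_preG {x : Omega F (⇑Q)} : ((x : isometryGroup F (⇑Q)) : GL ι F) ∈ preG eT X ↔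
    ((eT.symm (QuotientGroup.mk x) : T) : G) ∈ X := by
  rw [preG, mem_pre, Subgroup.mem_map]
  constructor
  · rintro ⟨t, ht, h⟩
    have h1 : eT t = QuotientGroup.mk x := h
    rw [← h1, eT.symm_apply_apply]
    exact ht
  · intro h
    exact ⟨eT.symm (QuotientGroup.mk x), h, eT.apply_symm_apply _⟩

theorem preG_le : preG eT X ≤ isometryGroup F (⇑Q) := pre_le

theorem preG_le_omega : preG eT X ≤ omegaGL (⇑Q) := pre_le_omegaGL

theorem exists_of_mem_preG {g : GL ι F} (hg : g ∈ preG eT X) : ∃ x : Omega F (⇑Q),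
    ((x : isometryGroup F (⇑Q)) : GL ι F) = g ∧ ((eT.symm (QuotientGroup.mk x) : T) : G) ∈ X := by
  obtain ⟨_, ⟨x, hx, rfl⟩, rfl⟩ := hg
  exact ⟨x, rfl, mem_preG.1 ⟨x, ⟨x, hx, rfl⟩, rfl⟩⟩

theorem inv0_iff (hG : Good Q) {h : Ind ((eP hG eT :))} {W : Submodule F (ι → F)} [Finite F] :
    Inv0 h X W ↔ preG eT X ≤ subspaceStabilizer W := by
  constructor
  · intro hW g hg
    obtain ⟨x, rfl, hx⟩ := exists_of_mem_preG hg
    refine H884.OmegaGL.mem_subspaceStabilizer.2 fun w hw => ?_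
    have h1 := hW _ hx
    rw [act_T hG h (x := oe hG x) (by
      change pe hG (eT (eT.symm _)) = _
      rw [eT.apply_symm_apply, pe_mk])] at h1
    rw [← h1]
    exact ⟨w, hw, rfl⟩
  · intro hle t ht
    obtain ⟨x, hx⟩ := QuotientGroup.mk_surjective (eT t)
    have h1 : eT.symm (QuotientGroup.mk x) = t := by rw [hx, eT.symm_apply_apply]
    have h2 : ((x : isometryGroup F (⇑Q)) : GL ι F) ∈ preG eT X := mem_preG.2 (by rw [h1]; exact ht)
    rw [act_T hG h (x := oe hG x) (by
      change pe hG (eT t) = _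
      rw [← hx, pe_mk])]
    have h3 : W.map ((oe hG x).1 : (ι → F) →ₗ[F] (ι → F)) ≤ W := by
      rintro _ ⟨w, hw, rfl⟩
      exact H884.OmegaGL.mem_subspaceStabilizer.1 (hle h2) w hw
    refine Submodule.eq_of_le_of_finrank_eq h3 ?_
    exact LinearEquiv.finrank_map_eq (oe hG x).1 W

theorem card_dvd_preG [Finite F] : Nat.card (X.subgroupOf T) ∣ Nat.card (preG eT X) := by
  have h1 : Nat.card (X.subgroupOf T) = Nat.card ((X.subgroupOf T).map eT.toMonoidHom) :=
    (Subgroup.card_map_of_injective eT.injective).symm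
  rw [h1]
  exact card_dvd_pre

theorem not_omega_le (hT : ¬ T ≤ X) : ¬ omegaGL (⇑Q) ≤ preG eT X := by
  intro h
  apply hT
  intro t ht
  obtain ⟨x, hx⟩ := QuotientGroup.mk_surjective (eT ⟨t, ht⟩)
  have h1 : ((x : isometryGroup F (⇑Q)) : GL ι F) ∈ preG eT X := h ⟨x.1, x.2, rfl⟩
  rw [mem_preG, hx, eT.symm_apply_apply] at h1
  exact h1

/-- an element of order `r ^ a` of the preimage -/
theorem exists_pow [Finite G] (hD : H390.Lift.Data Q) {r a : ℕ} (hr : r.Prime) (hr2 : r ≠ 2)
    (hcyc : ∀ P : Subgroup T, IsPGroup r P → IsCyclic P) (h : r ^ a ∣ Nat.card (X.subgroupOf T)) :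
    ∃ g ∈ preG eT X, orderOf g = r ^ a := by
  have := Fact.mk hr
  obtain ⟨S⟩ : Nonempty (Sylow r (X.subgroupOf T)) := inferInstance
  have hc : IsCyclic ((S : Subgroup (X.subgroupOf T)).map (X.subgroupOf T).subtype) := hcyc _ (S.2.map _)
  have hcS : IsCyclic S := isCyclic_of_surjective
    ((S : Subgroup (X.subgroupOf T)).equivMapOfInjective (X.subgroupOf T).subtype (Subgroup.subtype_injective _)).symm.toMonoidHom
    (MulEquiv.surjective _)
  obtain ⟨s, hs⟩ := IsCyclic.exists_generator (α := S)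
  have hos : orderOf s = Nat.card S := by
    rw [← Nat.card_zpowers]
    have : Subgroup.zpowers s = ⊤ := by
      rw [eq_top_iff]; intro z _; exact hs z
    rw [this, Subgroup.card_top]
  obtain ⟨c, hc⟩ : r ^ a ∣ Nat.card S := S.pow_dvd_card_of_pow_dvd_card h
  have hpos : 0 < Nat.card S := Nat.card_pos
  have hc0 : c ≠ 0 := by rintro rfl; omega
  -- an element of order `r ^ a`
  set! t : T := (((s ^ c : S) : X.subgroupOf T) : T) with ht
  have hot : orderOf t = r ^ a := by
    rw [ht, Subgroup.orderOf_coe, Subgroup.orderOf_coe, orderOf_pow_of_dvd hc0 (by rw [hos, hc]; exact Dvd.intro_left _ rfl), hos, hc,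
      Nat.mul_div_cancel _ (Nat.pos_of_ne_zero hc0)]
  have htX : (t : G) ∈ X := ((s ^ c : S) : X.subgroupOf T).2
  obtain ⟨x, hx⟩ := QuotientGroup.mk_surjective (eT t)
  have h1 : orderOf (QuotientGroup.mk x : POmega F (⇑Q)) = r ^ a := by
    have : (QuotientGroup.mk x : POmega F (⇑Q)) = eT t := hx
    rw [this, MulEquiv.orderOf_eq, hot]
  have hodd : Nat.Coprime (r ^ a) 2 := Nat.Coprime.pow_left _ ((Nat.coprime_primes hr Nat.prime_two).2 hr2)
  -- `x ^ 2` has order `r ^ a`
  have h2 : (x ^ r ^ a) ^ 2 = 1 := by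
    apply H390.Lift.center_sq hD
    rw [← QuotientGroup.eq_one_iff, QuotientGroup.mk_pow]
    have := pow_orderOf_eq_one (QuotientGroup.mk x : POmega F (⇑Q))
    rw [h1] at this
    exact this
  have h3 : orderOf (x ^ 2) = r ^ a := by
    apply Nat.dvd_antisymm
    · apply orderOf_dvd_of_pow_eq_one
      rw [← pow_mul, mul_comm, pow_mul]
      exact h2
    · have h4 : orderOf ((QuotientGroup.mk x : POmega F (⇑Q)) ^ 2) = r ^ a := by
        rw [Nat.Coprime.orderOf_pow (by rw [h1]; exact hodd), h1]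
      rw [← h4]
      have h5 : ((QuotientGroup.mk x : POmega F (⇑Q)) ^ 2) =
          QuotientGroup.mk' (Subgroup.center (Omega F (⇑Q))) (x ^ 2) := by rw [map_pow]; rfl
      rw [h5]
      exact orderOf_map_dvd _ _
  refine ⟨(((x ^ 2 : Omega F (⇑Q)) : isometryGroup F (⇑Q)) : GL ι F), ?_, ?_⟩
  · rw [mem_preG]
    have h5 : (QuotientGroup.mk (x ^ 2) : POmega F (⇑Q)) = eT (t ^ 2) := by
      rw [map_pow, ← hx]; rfl
    rw [h5, eT.symm_apply_apply]
    exact X.pow_mem htX 2
  · rw [Subgroup.orderOf_coe, Subgroup.orderOf_coe, h3]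

end

end Cfsg.Agent.H449.Reg

private theorem dce_65c08bb78ffd : _root_.True := by
  try have : _root_.True := by simp only [_root_.Cfsg.Agent.H449.Reg.preG.eq_1]
  exact _root_.True.intro
end

-- part: H449/Reg/Fix
section
prune_inst 0x2004210000000018800030000000100004b200430000e94200040100c06020032e010260001212128441200100400100000002000000000004004000012000800200a1080100000006808800000000000000000000000000000000000000000000000
set_option linter.all false
open scoped Cfsg.Agent.FastGrp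

/-!
# S3691: subspaces fixed by a factor, and restriction to an invariant subspace (helper449)

* `red_fixed` : a factor `X` whose `preG` is reducible and contains an element `x` of prime order `r`, `ord_r(q) > n / 2`, fixes a
  nonzero subspace of `C_V(x)`
* `exists_norm` : a nondegenerate space of dimension at least five contains nonzero vectors of every norm
* `no_two_red` : not both factors are reducible, if one of them fixes a point `⟨v⟩`
* `rst`, `resG` : restriction to an invariant subspace; `sieg_of` : if the restriction to `v^⊥` contains `Ω(v^⊥)`, the group contains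
  the Siegel transformations supported by `v^⊥`.
-/

set_option autoImplicit false
set_option linter.unusedSectionVars false

namespace Cfsg.Agent.H449.Reg

open Module QuadraticMap Cfsg Cfsg.Geo Cfsg.Agent.LieClassical.OrthCore Cfsg.Agent.LieClassical.OrthTrans
  Cfsg.Agent.H454.Reg Cfsg.Agent.H884.El Cfsg.Agent.H955 Cfsg.Agent.H954.TSing
open Cfsg.Agent.H951 (fx cm Inv)
open Cfsg.Agent.H278.Cov (Red)
open Cfsg.Agent.LieClassical.OrthFinite (glEquiv glEquiv_apply)
open scoped MatrixGroups Matrix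

universe u v

section perp

variable {ι : Type} [Fintype ι] [DecidableEq ι] {F : Type v} [Field F] {Q : QuadraticForm F (ι → F)}
  {H : Subgroup (GL ι F)}

theorem stab_perp (hH : H ≤ isometryGroup F (⇑Q)) {W : Submodule F (ι → F)} (hW : H ≤ subspaceStabilizer W) :
    H ≤ subspaceStabilizer (perp Q W) := by
  intro g hg
  refine H884.OmegaGL.mem_subspaceStabilizer.2 fun w hw u hu => ?_
  have hg' := hH hg
  rw [LieClassical.OrthFinite.mem_isometryGroup_iff] at hg'
  have hpol : ∀ a b : ι → F, polar Q ((g : Matrix ι ι F).mulVec a) ((g : Matrix ι ι F).mulVec b) = polar Q a b := by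
    intro a b
    simp only [polar, ← Matrix.mulVec_add, hg']
  have h1 : glEquiv ι F g⁻¹ u ∈ W := H884.OmegaGL.mem_subspaceStabilizer.1 (hW (H.inv_mem hg)) u hu
  have h2 : u = (g : Matrix ι ι F).mulVec (glEquiv ι F g⁻¹ u) := by
    rw [← glEquiv_apply]
    change u = (glEquiv ι F g * glEquiv ι F g⁻¹) u
    rw [← map_mul, mul_inv_cancel, map_one]
    rfl
  rw [glEquiv_apply, h2, hpol]
  exact hw _ h1

end perp

section norm

variable {F : Type v} [Field F] {V : Type*} [AddCommGroup V] [Module F V] {Q : QuadraticForm F V}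

theorem exists_norm_good (hG : Good Q) (c : F) : ∃ w : V, w ≠ 0 ∧ Q w = c := by
  obtain ⟨x, y, hxy⟩ := hG.exists_hyp
  refine ⟨x + c • y, ?_, ?_⟩
  · intro h0
    have h1 : polar Q (x + c • y) y = 1 := by
      rw [polar_add_left, polar_smul_left, hxy.pair, hxy.polar_right, smul_zero, add_zero]
    rw [h0, polar_zero_left] at h1
    exact zero_ne_one h1
  · rw [Q_add, QuadraticMap.map_smul, hxy.left, hxy.right, polar_smul_right, hxy.pair]
    simp

theorem exists_norm [Finite F] [FiniteDimensional F V] {W : Submodule F V} (hW : Nondeg (res Q W)) (h5 : 5 ≤ finrank F W)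
    (c : F) : ∃ w ∈ W, w ≠ 0 ∧ Q w = c := by
  obtain ⟨w, hw0, hw⟩ := exists_norm_good (LieClassical.OrthFinite.good_of_finite hW h5) c
  exact ⟨w, w.2, fun h => hw0 (Subtype.ext h), hw⟩

end norm

section fixed

variable {ι : Type} [Fintype ι] [DecidableEq ι] {F : Type v} [Field F] [Fintype F] {Q : QuadraticForm F (ι → F)}
variable {G : Type u} [Group G] {T : Subgroup G} [T.Normal] {hG : Good Q} {eT : T ≃* POmega F (⇑Q)}
  (hI : Ind ((eP hG eT :))) {X Y : Subgroup G} {k l r s : ℕ}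

/-- **a reducible factor fixes a subspace** -/
theorem red_fixed (hr : PP (Nat.card F) k r) (hk : 2 ≤ k) (hn : Fintype.card ι < 2 * k) {x : GL ι F}
    (hx : x ∈ preG eT X) (hxr : x ^ r = 1) (hx1 : x ≠ 1) (hred : Red (preG eT X)) :
    ∃ S : Submodule F (ι → F), S ≠ ⊥ ∧ S ≤ fx (lin x) ∧ ∀ g ∈ X, act hI g S = S := by
  have hlin : (lin x) ^ r = 1 := by rw [← H251.GeoCard.toLin_pow, hxr]; exact lin_one
  obtain ⟨-, hcm, hor, -⟩ := elt_data hr hk hn hlin (lin_ne_one hx1)
  have hiso : Iso Q (lin x) r := Iso.mk' hr hk hlin (lin_iso preG_le hx)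
  have hadd := hiso.finrank_add
  have hfin : finrank F (ι → F) = Fintype.card ι := Module.finrank_fintype_fun_eq_card F
  have key : ∀ W : Submodule F (ι → F), preG eT X ≤ subspaceStabilizer W → W ≤ fx (lin x) ∨ cm (lin x) ≤ W :=
    fun W hW => hor W (inv_of_mem (hW hx))
  refine exists_fixed hG hI (k := k) (D := fx (lin x)) ?_ ?_
  · intro W hW hWk
    rcases key W ((inv0_iff hG).1 hW) with h | h
    · exact h
    · have := Submodule.finrank_mono h
      omega
  · obtain ⟨W, hW0, hW1, hW⟩ := hred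
    rcases key W hW with h | h
    · refine ⟨W, (inv0_iff hG).2 hW, ?_, hW0⟩
      have := Submodule.finrank_mono h
      omega
    · refine ⟨perp Q W, (inv0_iff hG).2 (stab_perp preG_le hW), ?_, ?_⟩
      · have h1 := finrank_perp hG.nondeg W
        have := Submodule.finrank_mono h
        omega
      · intro h0
        apply hW1
        rw [← perp_perp hG.nondeg W, h0, perp_bot]

/-- **a factor fixing a point, and a reducible factor** -/
theorem no_red [Finite G] (hf : Fac T X Y) {v : ι → F} (hv : v ≠ 0) (hX : ∀ g ∈ X, act hI g (F ∙ v) = F ∙ v)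
    (hs : PP (Nat.card F) l s) (hl : 5 ≤ l) (hn : Fintype.card ι < 2 * l) {y : GL ι F} (hy : y ∈ preG eT Y)
    (hys : y ^ s = 1) (hy1 : y ≠ 1) (hred : Red (preG eT Y)) : False := by
  obtain ⟨S, hS0, hS, hSY⟩ := red_fixed hI hs (by omega) hn hy hys hy1 hred
  have hlin : (lin y) ^ s = 1 := by rw [← H251.GeoCard.toLin_pow, hys]; exact lin_one
  obtain ⟨-, hcm, -, -⟩ := elt_data hs (by omega) hn hlin (lin_ne_one hy1)
  have hiso : Iso Q (lin y) s := Iso.mk' hs (by omega) hlin (lin_iso preG_le hy)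
  obtain ⟨w, hw, hw0, hwv⟩ := exists_norm (nondeg_cm hG.nondeg hiso.iso hiso.ne0 hiso.pow) (by omega) (Q v)
  refine no_common hG hI hf hv hX hS0 hSY hw0 hwv fun s' hs' => ?_
  have h1 : s' ∈ perp Q (cm (lin y)) := by
    rw [perp_cm hG.nondeg hiso.iso hiso.ne0 hiso.pow]
    exact hS hs'
  rw [polar_comm]
  exact h1 w hw

end fixed

section res

variable {ι : Type} [Fintype ι] [DecidableEq ι] {F : Type v} [Field F] {Q : QuadraticForm F (ι → F)}
  {H : Subgroup (GL ι F)} {U : Submodule F (ι → F)}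

/-- restriction of a matrix to an invariant subspace -/
noncomputable def rst (h : GL ι F) (hh : h ∈ subspaceStabilizer U) : U ≃ₗ[F] U :=
  LinearEquiv.ofBijective ((lin h).restrict (inv_of_mem hh)) (by
    have hinj : Function.Injective ((lin h).restrict (inv_of_mem hh)) := by
      intro a b hab
      have h1 : lin h a = lin h b := congrArg Subtype.val hab
      apply Subtype.ext
      have h2 : glEquiv ι F h a = glEquiv ι F h b := h1
      exact (glEquiv ι F h).injective h2
    exact ⟨hinj, LinearMap.injective_iff_surjective.1 hinj⟩)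

theorem rst_apply (h : GL ι F) (hh : h ∈ subspaceStabilizer U) (u : U) :
    ((rst h hh u : U) : ι → F) = (h : Matrix ι ι F) *ᵥ (u : ι → F) := rfl

theorem rst_pow (h : GL ι F) (hh : h ∈ subspaceStabilizer U) (n : ℕ) (u : U) :
    ((((rst h hh) ^ n : U ≃ₗ[F] U) u : U) : ι → F) = ((h ^ n : GL ι F) : Matrix ι ι F) *ᵥ (u : ι → F) := by
  induction n with
  | zero => simp only [_root_.pow_zero, _root_.LinearEquiv.coe_one, _root_.id_eq, _root_.Units.val_one, _root_.Matrix.one_mulVec]
  | succ n ih =>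
    rw [pow_succ', pow_succ', Units.val_mul, ← Matrix.mulVec_mulVec, ← ih]
    rfl

/-- the restriction of a group to a subspace -/
def resG (U : Submodule F (ι → F)) (H : Subgroup (GL ι F)) : Subgroup (U ≃ₗ[F] U) where
  carrier := {e | ∃ h ∈ H, ∀ u : U, ((e u : U) : ι → F) = (h : Matrix ι ι F) *ᵥ (u : ι → F)}
  mul_mem' := by
    rintro a b ⟨h, hh, ha⟩ ⟨k, hk, hb⟩
    refine ⟨h * k, H.mul_mem hh hk, fun u => ?_⟩
    rw [Units.val_mul, ← Matrix.mulVec_mulVec, ← hb, ← ha]
    rfl
  one_mem' := ⟨1, H.one_mem, fun u => by rw [Units.val_one, Matrix.one_mulVec]; rfl⟩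
  inv_mem' := by
    rintro a ⟨h, hh, ha⟩
    refine ⟨h⁻¹, H.inv_mem hh, fun u => ?_⟩
    have h1 := ha (a⁻¹ u)
    have h2 : a (a⁻¹ u) = u := by
      change (a * a⁻¹) u = u
      rw [mul_inv_cancel]; rfl
    rw [h2] at h1
    rw [h1, Matrix.mulVec_mulVec, ← Units.val_mul, inv_mul_cancel, Units.val_one, Matrix.one_mulVec]

theorem rst_mem {h : GL ι F} (hh : h ∈ subspaceStabilizer U) (hH : h ∈ H) : rst h hh ∈ resG U H := ⟨h, hH, fun _ => rfl⟩

theorem resG_le_O (hH : H ≤ isometryGroup F (⇑Q)) : resG U H ≤ O (res Q U) := by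
  rintro e ⟨h, hh, he⟩
  rw [mem_O]
  intro u
  have h1 := hH hh
  rw [LieClassical.OrthFinite.mem_isometryGroup_iff] at h1
  rw [res_apply, res_apply, he, h1]

theorem dvd_resG [Finite F] {h : GL ι F} (hh : h ∈ subspaceStabilizer U) (hH : h ∈ H) {r : ℕ} (hr : r.Prime) (hhr : h ^ r = 1)
    (hne : rst h hh ≠ 1) : r ∣ Nat.card (resG U H) := by
  have := Fact.mk hr
  have h1 : (rst h hh) ^ r = 1 := by
    apply LinearEquiv.ext
    intro u
    apply Subtype.ext
    rw [rst_pow, hhr, Units.val_one, Matrix.one_mulVec]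
    rfl
  have h2 : orderOf (rst h hh) = r := orderOf_eq_prime h1 hne
  have h3 : orderOf (⟨rst h hh, rst_mem hh hH⟩ : resG U H) = r := by rw [← Subgroup.orderOf_coe]; exact h2
  rw [← h3]
  have hfin : Finite (U ≃ₗ[F] U) := by
    have : Finite U := inferInstance
    exact Finite.of_injective (fun e : U ≃ₗ[F] U => (e : U → U)) DFunLike.coe_injective
  exact orderOf_dvd_natCard _

/-- **the Siegel transformations supported by `v^⊥`** -/
theorem sieg_of {v : ι → F} (hv : Q v ≠ 0) (h2 : (2 : F) ≠ 0) (hH : H ≤ isometryGroup F (⇑Q))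
    (hHv : ∀ h ∈ H, (h : Matrix ι ι F) *ᵥ v = v ∨ (h : Matrix ι ι F) *ᵥ v = -v)
    (hGU : Good (res Q (perp Q (F ∙ v)))) (hE : E (res Q (perp Q (F ∙ v))) ≤ resG (perp Q (F ∙ v)) H)
    {u w : ι → F} (hu : Q u = 0) (hw : polar Q u w = 0) (huv : polar Q u v = 0) (hwv : polar Q w v = 0) :
    (glEquiv ι F).symm (siegel Q u w hu hw) ∈ H := by
  set U := perp Q (F ∙ v) with hU
  have hmemU : ∀ {y : ι → F}, polar Q y v = 0 → y ∈ U := by
    intro y hy z hz
    obtain ⟨c, rfl⟩ := Submodule.mem_span_singleton.1 hz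
    rw [polar_smul_left, polar_comm, hy, smul_zero]
  -- the pointwise stabiliser of `v`
  let H1 : Subgroup (GL ι F) :=
    { carrier := {h | h ∈ H ∧ (h : Matrix ι ι F) *ᵥ v = v}
      mul_mem' := by
        rintro a b ⟨ha, ha'⟩ ⟨hb, hb'⟩
        exact ⟨H.mul_mem ha hb, by rw [Units.val_mul, ← Matrix.mulVec_mulVec, hb', ha']⟩
      one_mem' := ⟨H.one_mem, by rw [Units.val_one, Matrix.one_mulVec]⟩
      inv_mem' := by
        rintro a ⟨ha, ha'⟩
        refine ⟨H.inv_mem ha, ?_⟩
        conv_lhs => rw [← ha']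
        rw [Matrix.mulVec_mulVec, ← Units.val_mul, inv_mul_cancel, Units.val_one, Matrix.one_mulVec] }
  have hinv : ∀ h ∈ H, (h : Matrix ι ι F) *ᵥ v = v → ((h⁻¹ : GL ι F) : Matrix ι ι F) *ᵥ v = v := by
    intro h _ h1
    conv_lhs => rw [← h1]
    rw [Matrix.mulVec_mulVec, ← Units.val_mul, inv_mul_cancel, Units.val_one, Matrix.one_mulVec]
  have hinv' : ∀ h ∈ H, (h : Matrix ι ι F) *ᵥ v = -v → ((h⁻¹ : GL ι F) : Matrix ι ι F) *ᵥ v = -v := by
    intro h _ h1
    have h3 : ((h⁻¹ : GL ι F) : Matrix ι ι F) *ᵥ ((h : Matrix ι ι F) *ᵥ v) = v := by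
      rw [Matrix.mulVec_mulVec, ← Units.val_mul, inv_mul_cancel, Units.val_one, Matrix.one_mulVec]
    rw [h1, Matrix.mulVec_neg] at h3
    exact neg_eq_iff_eq_neg.1 h3
  have hcomm : ⁅resG U H, resG U H⁆ ≤ resG U H1 := by
    rw [Subgroup.commutator_le]
    rintro a ⟨h, hh, ha⟩ b ⟨k, hk, hb⟩
    refine ⟨h * k * h⁻¹ * k⁻¹, ⟨H.mul_mem (H.mul_mem (H.mul_mem hh hk) (H.inv_mem hh)) (H.inv_mem hk), ?_⟩, fun u => ?_⟩
    · rw [Units.val_mul, Units.val_mul, Units.val_mul, ← Matrix.mulVec_mulVec,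
        ← Matrix.mulVec_mulVec, ← Matrix.mulVec_mulVec]
      rcases hHv h hh with h4 | h4 <;> rcases hHv k hk with h5 | h5
      · rw [hinv k hk h5, hinv h hh h4, h5, h4]
      · rw [hinv' k hk h5, Matrix.mulVec_neg, hinv h hh h4, Matrix.mulVec_neg, h5, neg_neg, h4]
      · rw [hinv k hk h5, hinv' h hh h4, Matrix.mulVec_neg, h5, Matrix.mulVec_neg, h4, neg_neg]
      · rw [hinv' k hk h5, Matrix.mulVec_neg, hinv' h hh h4, neg_neg, h5, Matrix.mulVec_neg, h4, neg_neg]
    · have ha' : ∀ u : U, ((a⁻¹ u : U) : ι → F) = ((h⁻¹ : GL ι F) : Matrix ι ι F) *ᵥ (u : ι → F) := by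
        intro u
        have h1 := ha (a⁻¹ u)
        have h2 : a (a⁻¹ u) = u := by
          change (a * a⁻¹) u = u
          rw [mul_inv_cancel]; rfl
        rw [h2] at h1
        rw [h1, Matrix.mulVec_mulVec, ← Units.val_mul, inv_mul_cancel, Units.val_one, Matrix.one_mulVec]
      have hb' : ∀ u : U, ((b⁻¹ u : U) : ι → F) = ((k⁻¹ : GL ι F) : Matrix ι ι F) *ᵥ (u : ι → F) := by
        intro u
        have h1 := hb (b⁻¹ u)
        have h2 : b (b⁻¹ u) = u := by
          change (b * b⁻¹) u = u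
          rw [mul_inv_cancel]; rfl
        rw [h2] at h1
        rw [h1, Matrix.mulVec_mulVec, ← Units.val_mul, inv_mul_cancel, Units.val_one, Matrix.one_mulVec]
      rw [commutatorElement_def, Units.val_mul, Units.val_mul, Units.val_mul,
        ← Matrix.mulVec_mulVec, ← Matrix.mulVec_mulVec, ← Matrix.mulVec_mulVec]
      change ((a (b (a⁻¹ (b⁻¹ u))) : U) : ι → F) = _
      rw [ha, hb, ha', hb']
  have hE1 : E (res Q U) ≤ resG U H1 := by
    rw [← hGU.E_perfect]
    exact (Subgroup.commutator_mono hE hE).trans hcomm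
  set! u' : U := ⟨u, hmemU huv⟩ with hu'
  set! w' : U := ⟨w, hmemU hwv⟩ with hw'
  have hu1 : res Q U u' = 0 := hu
  have hw1 : polar (res Q U) u' w' = 0 := hw
  obtain ⟨h, ⟨hh, hhv⟩, hhe⟩ := hE1 (siegel_mem_E hu1 hw1)
  have h3 : glEquiv ι F h = siegel Q u w hu hw := by
    apply LinearEquiv.ext
    intro y
    -- decompose `y`
    have hnd : Nondeg (res Q (F ∙ v)) := by
      rw [nondeg_res_iff]
      intro x hx hxy
      obtain ⟨c, rfl⟩ := Submodule.mem_span_singleton.1 hx
      have h4 := hxy v (Submodule.mem_span_singleton_self v)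
      rw [polar_smul_left, polar_self', smul_eq_mul] at h4
      rcases mul_eq_zero.1 h4 with h5 | h5
      · rw [h5, zero_smul]
      · exact absurd h5 (mul_ne_zero h2 hv)
    have hy : y ∈ (F ∙ v) ⊔ U := by rw [(isCompl_perp hnd).sup_eq_top]; trivial
    obtain ⟨a, ha, b, hb, rfl⟩ := Submodule.mem_sup.1 hy
    obtain ⟨c, rfl⟩ := Submodule.mem_span_singleton.1 ha
    rw [map_add, map_add]
    congr 1
    · rw [map_smul, map_smul, glEquiv_apply, hhv, siegel_apply, huv, hwv]
      simp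
    · have h4 := hhe ⟨b, hb⟩
      rw [glEquiv_apply]
      rw [← h4, siegel_apply, siegel_apply]
      rfl
  rw [← h3, MulEquiv.symm_apply_apply]
  exact hh

end res

end Cfsg.Agent.H449.Reg

private theorem dce_542bfb8f796a : _root_.True := by
  try have : _root_.True := by simp only [_root_.Cfsg.Agent.H449.Reg.rst.congr_simp]
  exact _root_.True.intro
end

-- part: H449/Reg/OddB
section
prune_inst 0x6100000000188080110000000400008000030800806208060108c00080020e01026000021000804010000040000000000000000000000000000001200000020080080100000000800000000000000000000000000000000000000000000000000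
set_option linter.all false
open scoped Cfsg.Agent.FastGrp

-- part: H449/Reg/ResB
section
/-!
# S3691: the residual case F-B- (helper449)

`ResB hI X m v` : `T ≃* PΩ(Q)`, `dim = 2 m + 1`, `X` fixes the point `⟨v⟩`, `Q v ≠ 0`, `v^⊥` of minus type, and `X` contains the
commutator subgroup `Ω⁻_{2m}(q)` of the stabiliser of `v` : all Siegel transformations supported by `v^⊥`.
-/

set_option autoImplicit false
set_option linter.unusedSectionVars false

namespace Cfsg.Agent.H449.Reg

open Module QuadraticMap Cfsg Cfsg.Geo Cfsg.Agent.LieClassical.OrthCore Cfsg.Agent.LieClassical.OrthTrans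
  Cfsg.Agent.H454.Reg Cfsg.Agent.H884.El Cfsg.Agent.H955 Cfsg.Agent.H954.TSing
open Cfsg.Agent.LieClassical.OrthFinite (glEquiv)
open scoped MatrixGroups Matrix

universe u v

/-- **the residual case F-B-** -/
structure ResB {ι : Type} [Fintype ι] [DecidableEq ι] {F : Type v} [Field F] {Q : QuadraticForm F (ι → F)}
    {G : Type u} [Group G] {T : Subgroup G} [T.Normal] {hG : Good Q} {eT : T ≃* POmega F (⇑Q)} (hI : Ind (eP hG eT))
    (X : Subgroup G) (m : ℕ) (v : ι → F) : Prop where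
  card : Fintype.card ι = 2 * m + 1
  ne : Q v ≠ 0
  minus : ¬ IsPlus (res Q (perp Q (F ∙ v)))
  fix : ∀ x ∈ X, act hI x (F ∙ v) = F ∙ v
  sieg : ∀ (u w : ι → F) (hu : Q u = 0) (hw : polar Q u w = 0), polar Q u v = 0 → polar Q w v = 0 →
    (glEquiv ι F).symm (siegel Q u w hu hw) ∈ preG eT X

end Cfsg.Agent.H449.Reg
end

-- part: H449/Reg/Odd
section
/-!
# S3691, section 5: `Ω_{2m+1}(q)`, `q` odd (helper449)

* `Ctx hI X Y p f m` : a factorization of a group with socle `T ≃* PΩ(Q)`, `dim = 2 m + 1`, `|F| = p ^ f`, `p` odd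
* `Ctx.side` : each primitive prime of order `k > m` lies, with its full power, in one of the factors
* `Has X k`, `Big X k`
-/

set_option autoImplicit false
set_option linter.unusedSectionVars false

namespace Cfsg.Agent.H449.Reg

open Module QuadraticMap Cfsg Cfsg.Geo Cfsg.Agent.LieClassical.OrthCore Cfsg.Agent.LieClassical.OrthTrans
  Cfsg.Agent.H454.Reg Cfsg.Agent.H884.El Cfsg.Agent.H955 Cfsg.Agent.H954.TSing Cfsg.Agent.H193.Dg Cfsg.Agent.H851.Dg
open Cfsg.Agent.H951 (fx cm Inv)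
open Cfsg.Agent.H278.Cov (Red Ext Num)
open scoped MatrixGroups Matrix

universe u v

variable {ι : Type} [Fintype ι] [DecidableEq ι] {F : Type v} [Field F] [Fintype F] {Q : QuadraticForm F (ι → F)}
variable {G : Type u} [Group G] [Finite G] {T : Subgroup G} [T.Normal] {hG : Good Q} {eT : T ≃* POmega F (⇑Q)}
  {hI : Ind (eP hG eT)} {X Y : Subgroup G} {p f m : ℕ}

/-- a factorization of a group with socle `Ω_{2m+1}(q)` -/
structure Ctx (hI : Ind (eP hG eT)) (X Y : Subgroup G) (p f m : ℕ) : Prop where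
  fac : Fac T X Y
  prime : p.Prime
  pos : 1 ≤ f
  card : Nat.card F = p ^ f
  podd : p ≠ 2
  dim : Fintype.card ι = 2 * m + 1
  data : H390.Lift.Data Q
  dvd : ∀ i r a, 1 ≤ i → i ≤ m → 3 ≤ 2 * i → PP p (f * (2 * i)) r → r ^ a ∣ (p ^ f) ^ (2 * i) - 1 → r ^ a ∣ Nat.card T
  out : ∀ k r, 3 ≤ k → PP p (f * k) r → ¬ r ∣ Nat.card (Cfsg.Out T)

/-- the order of `X ∩ T` is divisible by a primitive prime of order `k` -/
def Has (T : Subgroup G) (X : Subgroup G) (p f k : ℕ) : Prop := ∃ r, PP p (f * k) r ∧ r ∣ Nat.card (X.subgroupOf T)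

/-- the order of `X ∩ T` is divisible by a large power of a primitive prime of order `k` -/
def Big (T : Subgroup G) (X : Subgroup G) (p f k : ℕ) : Prop :=
  ∃ r a, PP p (f * k) r ∧ 2 * k + 1 < r ^ a ∧ r ^ a ∣ (p ^ f) ^ k - 1 ∧ r ^ a ∣ Nat.card (X.subgroupOf T)

/-- existence of a large power of a primitive prime of order `k` -/
def LP (p f k : ℕ) : Prop := ∃ r a, PP p (f * k) r ∧ 2 * k + 1 < r ^ a ∧ r ^ a ∣ (p ^ f) ^ k - 1

theorem Big.has {k : ℕ} (h : Big T X p f k) : Has T X p f k := by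
  obtain ⟨r, a, hr, hb, -, hd⟩ := h
  have ha : a ≠ 0 := by
    rintro rfl
    rw [pow_zero] at hb
    omega
  exact ⟨r, hr, (dvd_pow_self r ha).trans hd⟩

namespace Ctx

theorem symm (h : Ctx hI X Y p f m) : Ctx hI Y X p f m :=
  ⟨h.fac.symm, h.prime, h.pos, h.card, h.podd, h.dim, h.data, h.dvd, h.out⟩

theorem two_ne (h : Ctx hI X Y p f m) : (2 : F) ≠ 0 := by
  intro h2
  have h3 : ((2 : ℕ) : F) = 0 := by exact_mod_cast h2
  obtain ⟨c, hc⟩ := CharP.exists F
  obtain ⟨n, hn, hn'⟩ := FiniteField.card F c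
  have h4 : c ∣ 2 := (CharP.cast_eq_zero_iff F c 2).1 h3
  have h5 : c = 2 := (Nat.prime_dvd_prime_iff_eq hn Nat.prime_two).1 h4
  rw [← Nat.card_eq_fintype_card, h.card] at hn'
  have h6 : p ∣ c ^ (n : ℕ) := by rw [← hn']; exact dvd_pow_self p (by have := h.pos; omega)
  have h7 : p = c := (Nat.prime_dvd_prime_iff_eq h.prime hn).1 (h.prime.dvd_of_dvd_pow h6)
  exact h.podd (h7.trans h5)

theorem pp (h : Ctx hI X Y p f m) {k r : ℕ} (hr : PP p (f * k) r) : PP (Nat.card F) k r := by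
  rw [h.card]; exact hr.of_pow h.pos

/-- the Sylow subgroups for large primitive primes are cyclic -/
theorem cyc (h : Ctx hI X Y p f m) {k r : ℕ} (hr : PP p (f * k) r) (hk : 2 ≤ k) (hmk : 2 * m + 1 < 2 * k)
    (P : Subgroup T) (hP : IsPGroup r P) : IsCyclic P := by
  have hrq := h.pp hr
  have h1 : CycP r (⊤ : Subgroup (POmega F (⇑Q))) := cycP_of hrq hk (fun g _ hgr hg1 =>
    (elt_data hrq hk (by rw [h.dim]; exact hmk) (by rw [← H251.GeoCard.toLin_pow, hgr]; exact lin_one)
      (lin_ne_one hg1)).2.1)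
  let φ : T →* (⊤ : Subgroup (POmega F (⇑Q))) := (Subgroup.topEquiv.symm : POmega F (⇑Q) ≃* _).toMonoidHom.comp eT.toMonoidHom
  have hφ : Function.Injective φ := Subgroup.topEquiv.symm.injective.comp eT.injective
  have h2 := h1 (P.map φ) (hP.map φ)
  exact isCyclic_of_surjective (P.equivMapOfInjective φ hφ).symm.toMonoidHom (MulEquiv.surjective _)

/-- a large primitive prime of even order lies in one of the factors with its full power -/
theorem side (h : Ctx hI X Y p f m) {i r : ℕ} (hi : 3 ≤ 2 * i) (him : i ≤ m) (hmi : 2 * m + 1 < 2 * (2 * i))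
    (hr : PP p (f * (2 * i)) r) :
    (∀ a, r ^ a ∣ (p ^ f) ^ (2 * i) - 1 → r ^ a ∣ Nat.card (X.subgroupOf T)) ∨
      (∀ a, r ^ a ∣ (p ^ f) ^ (2 * i) - 1 → r ^ a ∣ Nat.card (Y.subgroupOf T)) := by
  have hfT : Finite T := inferInstance
  have hX0 : Nat.card (X.subgroupOf T) ≠ 0 := Nat.card_pos.ne'
  have hY0 : Nat.card (Y.subgroupOf T) ≠ 0 := Nat.card_pos.ne'
  have hT0 : Nat.card T ≠ 0 := Nat.card_pos.ne'
  have hv := h.fac.val_eq (h.out _ r hi hr)
  have hnb := h.fac.not_both hr.prime (h.cyc hr (by omega) hmi)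
  by_cases hX : r ∣ Nat.card (X.subgroupOf T)
  · left
    have hY : ¬ r ∣ Nat.card (Y.subgroupOf T) := fun hY => hnb hX hY
    rw [Nat.factorization_eq_zero_of_not_dvd hY, add_zero] at hv
    intro a ha
    have h1 := h.dvd i r a (by omega) him hi hr ha
    rw [hr.prime.pow_dvd_iff_le_factorization hT0] at h1
    rw [hr.prime.pow_dvd_iff_le_factorization hX0, hv]
    exact h1
  · right
    rw [Nat.factorization_eq_zero_of_not_dvd hX, zero_add] at hv
    intro a ha
    have h1 := h.dvd i r a (by omega) him hi hr ha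
    rw [hr.prime.pow_dvd_iff_le_factorization hT0] at h1
    rw [hr.prime.pow_dvd_iff_le_factorization hY0, hv]
    exact h1

theorem big_side (h : Ctx hI X Y p f m) {i : ℕ} (hi : 3 ≤ 2 * i) (him : i ≤ m) (hmi : 2 * m + 1 < 2 * (2 * i))
    (hL : LP p f (2 * i)) : Big T X p f (2 * i) ∨ Big T Y p f (2 * i) := by
  obtain ⟨r, a, hr, hb, hd⟩ := hL
  rcases h.side hi him hmi hr with h1 | h1
  · exact Or.inl ⟨r, a, hr, hb, hd, h1 a hd⟩
  · exact Or.inr ⟨r, a, hr, hb, hd, h1 a hd⟩

theorem has_side (h : Ctx hI X Y p f m) {i : ℕ} (hi : 3 ≤ 2 * i) (him : i ≤ m) (hmi : 2 * m + 1 < 2 * (2 * i)) :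
    Has T X p f (2 * i) ∨ Has T Y p f (2 * i) := by
  obtain ⟨r, hr⟩ := exists_pp (q := p) (e := f * (2 * i)) h.prime.two_le (by
    have := Nat.mul_le_mul h.pos hi; omega) (fun h1 => h.podd h1.1)
  have hd : r ^ 1 ∣ (p ^ f) ^ (2 * i) - 1 := by
    rw [pow_one, ← pow_mul]
    exact (hr.dvd_iff h.prime.one_le _).2 dvd_rfl
  rcases h.side hi him hmi hr with h1 | h1
  · exact Or.inl ⟨r, hr, by simpa using h1 1 hd⟩
  · exact Or.inr ⟨r, hr, by simpa using h1 1 hd⟩

end Ctx

end Cfsg.Agent.H449.Reg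
end

-- part: H449/Reg/OddB
section
/-!
# S3691, section 5: the main theorem for `m ≥ 5` (helper449)
-/

set_option autoImplicit false
set_option linter.unusedSectionVars false

namespace Cfsg.Agent.H449.Reg

open Module QuadraticMap Cfsg Cfsg.Geo Cfsg.Agent.LieClassical.OrthCore Cfsg.Agent.LieClassical.OrthTrans
  Cfsg.Agent.H454.Reg Cfsg.Agent.H884.El Cfsg.Agent.H955 Cfsg.Agent.H954.TSing Cfsg.Agent.H193.Dg Cfsg.Agent.H851.Dg
open Cfsg.Agent.H951 (fx cm Inv)
open Cfsg.Agent.H278.Cov (Red Ext Num)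
open Cfsg.Agent.LieClassical.OrthFinite (glEquiv glEquiv_apply)
open scoped MatrixGroups Matrix

universe u v

variable {ι : Type} [Fintype ι] [DecidableEq ι] {F : Type v} [Field F] [Fintype F] {Q : QuadraticForm F (ι → F)}
variable {G : Type u} [Group G] [Finite G] {T : Subgroup G} [T.Normal] {hG : Good Q} {eT : T ≃* POmega F (⇑Q)}
  {hI : Ind (eP hG eT)} {X Y : Subgroup G} {p f m : ℕ}

namespace Ctx

theorem elt (h : Ctx hI X Y p f m) {k r a : ℕ} (hr : PP p (f * k) r) (hk : 2 ≤ k) (hmk : 2 * m + 1 < 2 * k)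
    (hd : r ^ a ∣ Nat.card (X.subgroupOf T)) : ∃ g ∈ preG eT X, orderOf g = r ^ a := by
  have h1 := hr.lt (by have := Nat.mul_le_mul h.pos hk; omega)
  have h2 := Nat.mul_le_mul h.pos hk
  exact exists_pow h.data hr.prime (by omega) (h.cyc hr hk hmk) hd

/-- an element of prime order -/
theorem elt1 (h : Ctx hI X Y p f m) {k r : ℕ} (hr : PP p (f * k) r) (hk : 2 ≤ k) (hmk : 2 * m + 1 < 2 * k)
    (hd : r ∣ Nat.card (X.subgroupOf T)) : ∃ g ∈ preG eT X, orderOf g = r := by
  obtain ⟨g, hg, ho⟩ := h.elt (a := 1) hr hk hmk (by rwa [pow_one])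
  exact ⟨g, hg, by rw [ho, pow_one]⟩

theorem ne_one {g : GL ι F} {r : ℕ} (hr : r.Prime) (ho : orderOf g = r) : g ≠ 1 := by
  rintro rfl
  rw [orderOf_one] at ho
  exact hr.one_lt.ne ho

theorem isoOf (h : Ctx hI X Y p f m) {k r : ℕ} (hr : PP p (f * k) r) (hk : 2 ≤ k) {g : GL ι F} (hg : g ∈ preG eT X)
    (ho : orderOf g = r) : Iso Q (lin g) r := by
  have hlin : (lin g) ^ r = 1 := by rw [← H251.GeoCard.toLin_pow, ← ho, pow_orderOf_eq_one]; exact lin_one
  exact Iso.mk' (h.pp hr) hk hlin (lin_iso preG_le hg)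

/-- **the list lemma** for a factor containing a large power of a primitive prime -/
theorem list (h : Ctx hI X Y p f m) (hP : H659.CovCore.S5948Stmt.{v}) (hm : 5 ≤ m) {k : ℕ} (hk : k ≤ 2 * m)
    (hmk : 2 * m + 1 < 2 * k) (hB : Big T X p f k) : Red (preG eT X) ∨ Ext (Nat.gcd (2 * m + 1) k) (preG eT X) := by
  obtain ⟨r, a, hr, hb, hd, hdX⟩ := hB
  obtain ⟨g, hg, ho⟩ := h.elt hr (by omega) hmk hdX
  have hnum := num_of h.prime h.pos hr (n := 2 * m + 1) (by omega) (by omega) hmk hb hd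
  have hF : Fintype.card F = p ^ f := by rw [← Nat.card_eq_fintype_card]; exact h.card
  rcases og_iso hP (k := k) (H884.OddForm.isNondegenerate_of_nondeg _ hG.nondeg) (H := preG eT X)
    (fun x hx => LieClassical.OrthFinite.mem_isometryGroup_iff.1 (preG_le hx)) hg (by rw [h.dim, ho, hF]; exact hnum)
    with h1 | h1 | h1
  · exact Or.inl h1
  · right
    rw [h.dim] at h1
    exact h1
  · exact absurd h1 (not_omega_le h.fac.not_le_left)

/-- **two reducible factors** -/
theorem no_red' (h : Ctx hI X Y p f m) {v : ι → F} (hv : v ≠ 0) (hX : ∀ g ∈ X, act hI g (F ∙ v) = F ∙ v)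
    {k : ℕ} (hk : 5 ≤ k) (hmk : 2 * m + 1 < 2 * k) (hB : Has T Y p f k) (hred : Red (preG eT Y)) : False := by
  obtain ⟨r, hr, hd⟩ := hB
  obtain ⟨y, hy, ho⟩ := h.symm.elt1 hr (by omega) hmk hd
  exact no_red hI h.fac hv hX (h.pp hr) hk (by rw [h.dim]; exact hmk) hy (by rw [← ho, pow_orderOf_eq_one])
    (ne_one hr.prime ho) hred

/-- the data of a fixed point of minus type -/
structure Pt (hI : Ind (eP hG eT)) (X : Subgroup G) (v : ι → F) : Prop where
  ne : Q v ≠ 0
  minus : ¬ IsPlus (res Q (perp Q (F ∙ v)))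
  fix : ∀ x ∈ X, act hI x (F ∙ v) = F ∙ v

/-- **a reducible factor of order divisible by `r_{2m}` fixes a minus point** -/
theorem pt_of_red (h : Ctx hI X Y p f m) (hm : 3 ≤ m) (hH : Has T X p f (2 * m)) (hred : Red (preG eT X)) :
    ∃ v, Pt hI X v := by
  obtain ⟨r, hr, hd⟩ := hH
  obtain ⟨x, hx, ho⟩ := h.elt1 hr (by omega) (by omega) hd
  have hx1 := ne_one hr.prime ho
  have hiso := h.isoOf hr (by omega) hx ho
  have hfin : finrank F (ι → F) = 2 * m + 1 := by rw [Module.finrank_fintype_fun_eq_card, h.dim]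
  obtain ⟨hcm, hmin⟩ := hiso.even_case hG.nondeg (lin_ne_one hx1) (h.pp hr) (even_two_mul m) (by rw [hfin]; omega)
  have hadd := hiso.finrank_add
  obtain ⟨S, hS0, hS, hSX⟩ := red_fixed hI (h.pp hr) (by omega) (by rw [h.dim]; omega) hx
    (by rw [← ho, pow_orderOf_eq_one]) hx1 hred
  have hfx : finrank F (fx (lin x)) = 1 := by omega
  obtain ⟨v, hvS, hv0⟩ := Submodule.exists_mem_ne_zero_of_ne_bot hS0
  have h1 : F ∙ v ≤ S := (Submodule.span_singleton_le_iff_mem v S).2 hvS
  have h2 : F ∙ v = fx (lin x) := Submodule.eq_of_le_of_finrank_eq (h1.trans hS) (by rw [hfx, finrank_span_singleton hv0])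
  have h3 : S = F ∙ v := le_antisymm (by rw [h2]; exact hS) h1
  have h4 : perp Q (F ∙ v) = cm (lin x) := by
    rw [h2, ← perp_cm hG.nondeg hiso.iso hiso.ne0 hiso.pow, perp_perp hG.nondeg]
  refine ⟨v, ?_, by rw [h4]; exact hmin, fun y hy => by rw [← h3]; exact hSX y hy⟩
  intro hQv
  apply hv0
  have h5 : v ∈ perp Q (F ∙ v) := by
    intro z hz
    obtain ⟨c, rfl⟩ := Submodule.mem_span_singleton.1 hz
    rw [polar_smul_left, polar_self', hQv]
    simp
  rw [h4] at h5
  have h6 : v ∈ fx (lin x) := by rw [← h2]; exact Submodule.mem_span_singleton_self v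
  have h7 : v ∈ fx (lin x) ⊓ cm (lin x) := ⟨h6, h5⟩
  rw [(H951.isCompl_fx_cm hiso.ne0 hiso.pow).inf_eq_bot] at h7
  exact (Submodule.mem_bot F).1 h7

theorem stepA (h : Ctx hI X Y p f m) (hP : H659.CovCore.S5948Stmt.{v}) (hm : 5 ≤ m) (hB : Big T X p f (2 * m)) :
    ∃ v, Pt hI X v := by
  rcases h.list hP hm le_rfl (by omega) hB with h1 | ⟨s, K, hs, hsd, -⟩
  · exact h.pt_of_red (by omega) hB.has h1
  · exfalso
    have h1 := hsd.trans (Nat.gcd_dvd_left _ _)
    have h2 := hsd.trans (Nat.gcd_dvd_right _ _)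
    have h3 : s ∣ 1 := (Nat.dvd_add_right h2).1 h1
    exact hs.one_lt.ne' (Nat.dvd_one.1 h3)


section point

variable {v : ι → F}

theorem nondeg_line (h2 : (2 : F) ≠ 0) (hv : Q v ≠ 0) : Nondeg (res Q (F ∙ v)) := by
  rw [nondeg_res_iff]
  intro x hx hxy
  obtain ⟨c, rfl⟩ := Submodule.mem_span_singleton.1 hx
  have h4 := hxy v (Submodule.mem_span_singleton_self v)
  rw [polar_smul_left, polar_self', smul_eq_mul] at h4
  rcases mul_eq_zero.1 h4 with h5 | h5
  · rw [h5, zero_smul]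
  · exact absurd h5 (mul_ne_zero h2 hv)

theorem Pt.ne0 (hv : Pt hI X v) : v ≠ 0 := by
  rintro rfl
  exact hv.ne (QuadraticMap.map_zero Q)

theorem Pt.le (hv : Pt hI X v) : preG eT X ≤ subspaceStabilizer (F ∙ v) := (inv0_iff hG).1 fun _ ht => hv.fix _ ht

theorem Pt.le_perp (hv : Pt hI X v) : preG eT X ≤ subspaceStabilizer (perp Q (F ∙ v)) := stab_perp preG_le hv.le

theorem Pt.sgn (hv : Pt hI X v) {g : GL ι F} (hg : g ∈ preG eT X) :
    (g : Matrix ι ι F) *ᵥ v = v ∨ (g : Matrix ι ι F) *ᵥ v = -v := by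
  have h1 := H884.OmegaGL.mem_subspaceStabilizer.1 (hv.le hg) v (Submodule.mem_span_singleton_self v)
  obtain ⟨c, hc⟩ := Submodule.mem_span_singleton.1 h1
  rw [glEquiv_apply] at hc
  have h2 := preG_le hg
  rw [LieClassical.OrthFinite.mem_isometryGroup_iff] at h2
  have h3 := h2 v
  rw [← hc, QuadraticMap.map_smul, smul_eq_mul] at h3
  have h4 : c * c = 1 := mul_right_cancel₀ hv.ne (by rw [h3, one_mul])
  rcases mul_self_eq_one_iff.1 h4 with h5 | h5
  · left; rw [← hc, h5, one_smul]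
  · right; rw [← hc, h5, neg_one_smul]

theorem Pt.fix_of_odd (h2 : (2 : F) ≠ 0) (hv : Pt hI X v) {g : GL ι F} (hg : g ∈ preG eT X) (ho : Odd (orderOf g)) :
    (g : Matrix ι ι F) *ᵥ v = v := by
  rcases hv.sgn hg with h1 | h1
  · exact h1
  · exfalso
    have h3 : ∀ n : ℕ, ((g ^ n : GL ι F) : Matrix ι ι F) *ᵥ v = (-1 : F) ^ n • v := by
      intro n
      induction n with
      | zero => simp
      | succ n ih =>
        rw [pow_succ, Units.val_mul, ← Matrix.mulVec_mulVec, h1, Matrix.mulVec_neg, ih, pow_succ]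
        simp
    have h4 := h3 (orderOf g)
    rw [pow_orderOf_eq_one, Units.val_one, Matrix.one_mulVec, ho.neg_one_pow] at h4
    have h5 : (2 : F) • v = 0 := by
      rw [two_smul]
      nth_rw 1 [h4]
      simp
    rcases smul_eq_zero.1 h5 with h6 | h6
    · exact h2 h6
    · exact hv.ne0 h6

/-- an element fixing `v` and `v^⊥` pointwise -/
theorem eq_one_of (h2 : (2 : F) ≠ 0) (hv : Q v ≠ 0) {g : GL ι F} (h1 : (g : Matrix ι ι F) *ᵥ v = v)
    (h3 : ∀ u ∈ perp Q (F ∙ v), (g : Matrix ι ι F) *ᵥ u = u) : g = 1 := by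
  apply lin_injective
  rw [lin_one]
  apply LinearMap.ext
  intro y
  have hy : y ∈ (F ∙ v) ⊔ perp Q (F ∙ v) := by rw [(isCompl_perp (nondeg_line h2 hv)).sup_eq_top]; trivial
  obtain ⟨a, ha, b, hb, rfl⟩ := Submodule.mem_sup.1 hy
  obtain ⟨c, rfl⟩ := Submodule.mem_span_singleton.1 ha
  rw [lin, Matrix.toLin'_apply, Matrix.mulVec_add, Matrix.mulVec_smul, h1, h3 b hb]
  rfl

theorem orderOf_rst (h2 : (2 : F) ≠ 0) (hv : Q v ≠ 0) {g : GL ι F} (h1 : (g : Matrix ι ι F) *ᵥ v = v)
    (hU : g ∈ subspaceStabilizer (perp Q (F ∙ v))) : orderOf (rst g hU) = orderOf g := by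
  rw [orderOf_eq_orderOf_iff]
  intro n
  have h3 : ∀ n : ℕ, ((g ^ n : GL ι F) : Matrix ι ι F) *ᵥ v = v := by
    intro n
    induction n with
    | zero => simp
    | succ n ih => rw [pow_succ, Units.val_mul, ← Matrix.mulVec_mulVec, h1, ih]
  constructor
  · intro h4
    refine eq_one_of h2 hv (h3 n) fun u hu => ?_
    rw [← rst_pow g hU n ⟨u, hu⟩, h4]
    rfl
  · intro h4
    apply LinearEquiv.ext
    intro u
    apply Subtype.ext
    rw [rst_pow, h4, Units.val_one, Matrix.one_mulVec]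
    rfl

end point

section block

variable {v : ι → F}

/-- the group induced on `v^⊥` -/
noncomputable abbrev blk (eT : T ≃* POmega F (⇑Q)) (X : Subgroup G) (v : ι → F) :
    Subgroup (perp Q (F ∙ v) ≃ₗ[F] perp Q (F ∙ v)) := resG (perp Q (F ∙ v)) (preG eT X)

theorem odd_of_pp (h : Ctx hI X Y p f m) {k r : ℕ} (hr : PP p (f * k) r) (hk : 2 ≤ k) (a : ℕ) : Odd (r ^ a) := by
  have h1 := hr.lt (by have := Nat.mul_le_mul h.pos hk; omega)
  have h2 := Nat.mul_le_mul h.pos hk
  exact (hr.prime.odd_of_ne_two (by omega)).pow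

theorem finrank_U (h : Ctx hI X Y p f m) (hv : Pt hI X v) : finrank F (perp Q (F ∙ v)) = 2 * m := by
  rw [finrank_perp hG.nondeg, Module.finrank_fintype_fun_eq_card, h.dim, finrank_span_singleton hv.ne0]
  rfl

/-- primitive primes dividing the order of the block -/
theorem dvd_blk (h : Ctx hI X Y p f m) (hv : Pt hI X v) {k r : ℕ} (hr : PP p (f * k) r) (hk : 2 ≤ k) (hmk : 2 * m + 1 < 2 * k)
    (hd : r ∣ Nat.card (X.subgroupOf T)) : r ∣ Nat.card (blk eT X v) := by
  obtain ⟨x, hx, ho⟩ := h.elt1 hr hk hmk hd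
  refine dvd_resG (hv.le_perp hx) hx hr.prime (by rw [← ho, pow_orderOf_eq_one]) fun h1 => ne_one hr.prime ho ?_
  have h2 := orderOf_rst h.two_ne hv.ne (hv.fix_of_odd h.two_ne hx (by
    rw [ho]; simpa using h.odd_of_pp hr hk 1)) (hv.le_perp hx)
  rw [h1, orderOf_one] at h2
  exact orderOf_eq_one_iff.1 h2.symm

/-- the block is irreducible, if `r_{2m}` divides its order -/
theorem irr_blk (h : Ctx hI X Y p f m) (hm : 1 ≤ m) (hv : Pt hI X v) (hH : Has T X p f (2 * m)) :
    ¬ ∃ W : Submodule F (perp Q (F ∙ v)), W ≠ ⊥ ∧ W ≠ ⊤ ∧ ∀ e ∈ blk eT X v, ∀ w ∈ W, e w ∈ W := by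
  rintro ⟨W, hW0, hW1, hW⟩
  obtain ⟨r, hr, hd⟩ := hH
  obtain ⟨x, hx, ho⟩ := h.elt1 hr (by omega) (by omega) hd
  have hx1 := ne_one hr.prime ho
  have hiso := h.isoOf hr (by omega) hx ho
  have hfin : finrank F (ι → F) = 2 * m + 1 := by rw [Module.finrank_fintype_fun_eq_card, h.dim]
  obtain ⟨hcm, hmin⟩ := hiso.even_case hG.nondeg (lin_ne_one hx1) (h.pp hr) (even_two_mul m) (by rw [hfin]; omega)
  have hadd := hiso.finrank_add
  have hU := h.finrank_U hv
  have h1 : finrank F W < 2 * m := by rw [← hU]; exact Submodule.finrank_lt hW1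
  have h2 : finrank F (W.map (perp Q (F ∙ v)).subtype) = finrank F W := Submodule.finrank_map_subtype_eq _ _
  have h3 : Inv (lin x) (W.map (perp Q (F ∙ v)).subtype) := by
    rintro _ ⟨w, hw, rfl⟩
    refine ⟨rst x (hv.le_perp hx) w, hW _ (rst_mem _ hx) w hw, ?_⟩
    rw [Submodule.subtype_apply, rst_apply, lin, Matrix.toLin'_apply]
    rfl
  have h4 := hiso.le_fx (h.pp hr) h3 (by omega)
  have h5 : F ∙ v ≤ fx (lin x) := hiso.le_fx (h.pp hr) (inv_of_mem (hv.le hx)) (by rw [finrank_span_singleton hv.ne0]; omega)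
  have h6 : F ∙ v = fx (lin x) := Submodule.eq_of_le_of_finrank_eq h5 (by rw [finrank_span_singleton hv.ne0]; omega)
  apply hW0
  rw [Submodule.eq_bot_iff]
  intro w hw
  have h7 : (w : ι → F) ∈ F ∙ v := h6.ge (h4 ⟨w, hw, rfl⟩)
  have h8 : (w : ι → F) ∈ (F ∙ v) ⊓ perp Q (F ∙ v) := ⟨h7, w.2⟩
  rw [(isCompl_perp (nondeg_line h.two_ne hv.ne)).inf_eq_bot] at h8
  exact Subtype.ext ((Submodule.mem_bot F).1 h8)

/-- **the block of a factor fixing a minus point** -/
theorem stepB (h : Ctx hI X Y p f m) (hP : H659.CovCore.S5948Stmt.{v}) (hm : 5 ≤ m) (hv : Pt hI X v)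
    (hH : Has T X p f (2 * m)) {k : ℕ} (hk : k ≤ 2 * m) (hmk : 2 * m + 1 < 2 * k) (hB : Big T X p f k)
    (hext : ∀ s, s.Prime → s ∣ Nat.gcd (2 * m) k → ¬ AExt s (blk eT X v)) : ResB hI X m v := by
  obtain ⟨r, a, hr, hb, hd, hdX⟩ := hB
  obtain ⟨g, hg, ho⟩ := h.elt hr (by omega) hmk hdX
  have hU := h.finrank_U hv
  have hnum := num_of h.prime h.pos hr (n := 2 * m) (by omega) hk (by omega) hb hd
  have hF : Fintype.card F = p ^ f := by rw [← Nat.card_eq_fintype_card]; exact h.card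
  have hgv := hv.fix_of_odd h.two_ne hg (by rw [ho]; exact h.odd_of_pp hr (by omega) a)
  have hnd : Nondeg (res Q (perp Q (F ∙ v))) := nondeg_perp hG.nondeg (nondeg_line h.two_ne hv.ne)
  rcases og_abs hP hnd (resG_le_O (U := perp Q (F ∙ v)) (preG_le (eT := eT) (X := X))) (rst_mem (hv.le_perp hg) hg) (k := k)
    (by rw [orderOf_rst h.two_ne hv.ne hgv, ho, hU, hF]; exact hnum) with h1 | ⟨s, hs, hsd, h1⟩ | h1
  · exact (h.irr_blk (by omega) hv hH h1).elim
  · rw [hU] at hsd
    exact (hext s hs hsd h1).elim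
  · have hGU : Good (res Q (perp Q (F ∙ v))) := LieClassical.OrthFinite.good_of_finite hnd (by rw [hU]; omega)
    exact ⟨h.dim, hv.ne, hv.minus, hv.fix, fun u w hu hw huv hwv =>
      sieg_of hv.ne h.two_ne preG_le (fun g hg => hv.sgn hg) hGU h1 hu hw huv hwv⟩

/-- no quadratic extension of the block -/
theorem no_two (h : Ctx hI X Y p f m) (hm : 1 ≤ m) (hv : Pt hI X v) (hH : Has T X p f (2 * m)) {i : ℕ}
    (hmk : 2 * m + 1 < 2 * (2 * i)) (hi : Odd (m + i)) (hHi : Has T X p f (2 * i)) : ¬ AExt 2 (blk eT X v) := by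
  intro hA
  obtain ⟨r, hr, hd⟩ := hH
  obtain ⟨s, hs, hds⟩ := hHi
  have hnd : Nondeg (res Q (perp Q (F ∙ v))) := nondeg_perp hG.nondeg (nondeg_line h.two_ne hv.ne)
  exact hA.not_two hnd (resG_le_O (U := perp Q (F ∙ v)) (preG_le (eT := eT) (X := X))) (h.pp hr) (h.pp hs) (h.finrank_U hv)
    (even_two_mul m) (even_two_mul i) (by omega) (by omega)
    (by rw [Nat.mul_div_cancel_left _ two_pos, Nat.mul_div_cancel_left _ two_pos]; exact hi)
    (h.dvd_blk hv hr (by omega) (by omega) hd) (h.dvd_blk hv hs (by omega) hmk hds)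

end block

/-- the primes of a prime divisor of `gcd (2 m) (2 i)`, `i = m - 1` or `m - 2` -/
theorem eq_two_of_gcd {s m i : ℕ} (hs : s.Prime) (hd : s ∣ Nat.gcd (2 * m) (2 * i)) (hi : i + 1 = m ∨ i + 2 = m) : s = 2 := by
  have h1 := hd.trans (Nat.gcd_dvd_left _ _)
  have h2 := hd.trans (Nat.gcd_dvd_right _ _)
  have h3 : s ∣ 2 * m - 2 * i := Nat.dvd_sub h1 h2
  have h4 : s ∣ 2 ^ 2 := by
    rcases hi with rfl | rfl
    · have : 2 * (i + 1) - 2 * i = 2 := by omega
      rw [this] at h3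
      exact h3.trans (by norm_num)
    · have : 2 * (i + 2) - 2 * i = 2 ^ 2 := by omega
      rw [this] at h3
      exact h3
  exact (Nat.prime_dvd_prime_iff_eq hs Nat.prime_two).1 (hs.dvd_of_dvd_pow h4)

/-- an extension field kills elements of prime order with the wrong fixed space -/
theorem ext_dvd (h : Ctx hI X Y p f m) {s : ℕ} (hs : s.Prime) {K : Subalgebra F (Matrix ι ι F)} (hK : IsFieldSubalgebra s K)
    (hle : preG eT X ≤ subalgebraNormalizer K) {i : ℕ} (hi : 2 ≤ 2 * i) (hmi : 2 * m + 1 < 2 * (2 * i)) (him : i ≤ m)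
    (hsi : s ≤ 2 * i) (hH : Has T X p f (2 * i)) : s ∣ 2 * m + 1 - 2 * i := by
  obtain ⟨r, hr, hd⟩ := hH
  obtain ⟨x, hx, ho⟩ := h.elt1 hr hi hmi hd
  have hx1 := ne_one hr.prime ho
  have hiso := h.isoOf hr hi hx ho
  have hfin : finrank F (ι → F) = 2 * m + 1 := by rw [Module.finrank_fintype_fun_eq_card, h.dim]
  obtain ⟨hcm, -⟩ := hiso.even_case hG.nondeg (lin_ne_one hx1) (h.pp hr) (even_two_mul i) (by rw [hfin]; omega)
  have hadd := hiso.finrank_add
  have h1 := hr.lt (by have := Nat.mul_le_mul h.pos hi; omega)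
  have h2 : 1 * (2 * i) ≤ f * (2 * i) := Nat.mul_le_mul_right _ h.pos
  have hne : r ≠ s := by omega
  have h3 := H906.Cov.ext_dvd hs hK (t := x) (hle hx)
    (by rw [ho]; exact (Nat.coprime_primes hr.prime hs).2 hne) (Polynomial.X - 1)
  have h4 : LinearMap.ker (Polynomial.aeval (Matrix.toLin' (x : Matrix ι ι F)) (Polynomial.X - 1 : Polynomial F)) = fx (lin x) := by
    ext w
    rw [map_sub, Polynomial.aeval_X, map_one, LinearMap.mem_ker, LinearMap.sub_apply, sub_eq_zero]
    exact H951.mem_fx.symm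
  rw [h4] at h3
  have h5 : finrank F (fx (lin x)) = 2 * m + 1 - 2 * i := by omega
  rwa [h5] at h3

/-- **a factor fixing a minus point; the other one contains `r_{2m-2}`** -/
theorem point_case (h : Ctx hI X Y p f m) (hP : H659.CovCore.S5948Stmt.{v}) (hm : 5 ≤ m) {v : ι → F} (hv : Pt hI X v)
    (hH : Has T X p f (2 * m)) (hL1 : LP p f (2 * (m - 1))) (hL2 : 3 ∣ 2 * m + 1 → LP p f (2 * (m - 2))) : ResB hI X m v := by
  rcases h.big_side (i := m - 1) (by omega) (by omega) (by omega) hL1 with hB | hB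
  · refine h.stepB hP hm hv hH (k := 2 * (m - 1)) (by omega) (by omega) hB fun s hs hd => ?_
    rw [eq_two_of_gcd hs hd (Or.inl (by omega))]
    exact h.no_two (by omega) hv hH (i := m - 1) (by omega) ⟨m - 1, by omega⟩ hB.has
  · rcases h.symm.list hP hm (k := 2 * (m - 1)) (by omega) (by omega) hB with h1 | ⟨s, K, hs, hsd, hK, hle⟩
    · exact (h.no_red' hv.ne0 hv.fix (by omega) (by omega) hB.has h1).elim
    · -- `s = 3`
      have h1 := hsd.trans (Nat.gcd_dvd_left _ _)
      have h2 := hsd.trans (Nat.gcd_dvd_right _ _)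
      have h3 : s ∣ 2 * m + 1 - 2 * (m - 1) := Nat.dvd_sub h1 h2
      have h4 : 2 * m + 1 - 2 * (m - 1) = 3 := by omega
      rw [h4] at h3
      obtain rfl : s = 3 := (Nat.prime_dvd_prime_iff_eq hs Nat.prime_three).1 h3
      have hm7 : 7 ≤ m := by
        obtain ⟨c, hc⟩ := h1
        omega
      have hY : ∀ i, (i + 2 = m ∨ i + 3 = m) → ¬ Has T Y p f (2 * i) := by
        intro i hi hHi
        have h5 := h.symm.ext_dvd hs hK hle (i := i) (by omega) (by omega) (by omega) (by omega) hHi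
        obtain ⟨c, hc⟩ := h5
        omega
      have hB2 : Big T X p f (2 * (m - 2)) := by
        rcases h.big_side (i := m - 2) (by omega) (by omega) (by omega) (hL2 h1) with h5 | h5
        · exact h5
        · exact (hY (m - 2) (Or.inl (by omega)) h5.has).elim
      have hH3 : Has T X p f (2 * (m - 3)) := by
        rcases h.has_side (i := m - 3) (by omega) (by omega) (by omega) with h5 | h5
        · exact h5
        · exact (hY (m - 3) (Or.inr (by omega)) h5).elim
      refine h.stepB hP hm hv hH (k := 2 * (m - 2)) (by omega) (by omega) hB2 fun s hs hd => ?_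
      rw [eq_two_of_gcd hs hd (Or.inr (by omega))]
      exact h.no_two (by omega) hv hH (i := m - 3) (by omega) ⟨m - 2, by omega⟩ hH3

/-- **`Ω_{2m+1}(q)`, `m ≥ 5`**: only the residual case remains -/
theorem main5 (h : Ctx hI X Y p f m) (hP : H659.CovCore.S5948Stmt.{v}) (hm : 5 ≤ m) (hL0 : LP p f (2 * m))
    (hL1 : LP p f (2 * (m - 1))) (hL2 : 3 ∣ 2 * m + 1 → LP p f (2 * (m - 2))) : ∃ v, ResB hI X m v ∨ ResB hI Y m v := by
  rcases h.big_side (i := m) (by omega) le_rfl (by omega) hL0 with hB | hB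
  · obtain ⟨v, hv⟩ := h.stepA hP hm hB
    exact ⟨v, Or.inl (h.point_case hP hm hv hB.has hL1 hL2)⟩
  · obtain ⟨v, hv⟩ := h.symm.stepA hP hm hB
    exact ⟨v, Or.inr (h.symm.point_case hP hm hv hB.has hL1 hL2)⟩

/-- **`m = 10`** (needed for `q = 3`, where there is no large primitive prime power of order `18`) -/
theorem point_case10 (h : Ctx hI X Y p f 10) (hP : H659.CovCore.S5948Stmt.{v}) {v : ι → F} (hv : Pt hI X v)
    (hH : Has T X p f 20) (hL1 : LP p f 16) (hL2 : LP p f 14) : ResB hI X 10 v := by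
  have hB : Big T X p f 16 := by
    rcases h.big_side (i := 8) (by omega) (by omega) (by omega) hL1 with hB | hB
    · exact hB
    · rcases h.symm.list hP (by omega) (k := 16) (by omega) (by omega) hB with h1 | ⟨s, K, hs, hsd, hK, hle⟩
      · exact (h.no_red' hv.ne0 hv.fix (k := 16) (by omega) (by omega) hB.has h1).elim
      · exfalso
        have h3 : s ∣ 1 := by
          have h4 : Nat.gcd (2 * 10 + 1) 16 = 1 := by norm_num
          rwa [h4] at hsd
        exact hs.one_lt.ne' (Nat.dvd_one.1 h3)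
  rcases h.big_side (i := 7) (by omega) (by omega) (by omega) hL2 with hB2 | hB2
  · refine h.stepB hP (by omega) hv hH (k := 14) (by omega) (by omega) hB2 fun s hs hd => ?_
    have h4 : Nat.gcd (2 * 10) 14 = 2 := by norm_num
    rw [h4] at hd
    rw [(Nat.prime_dvd_prime_iff_eq hs Nat.prime_two).1 hd]
    exact h.no_two (by omega) hv hH (i := 7) (by omega) ⟨8, by omega⟩ hB2.has
  · rcases h.symm.list hP (by omega) (k := 14) (by omega) (by omega) hB2 with h1 | ⟨s, K, hs, hsd, hK, hle⟩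
    · exact (h.no_red' hv.ne0 hv.fix (k := 14) (by omega) (by omega) hB2.has h1).elim
    · have h4 : Nat.gcd (2 * 10 + 1) 14 = 7 := by norm_num
      rw [h4] at hsd
      obtain rfl : s = 7 := (Nat.prime_dvd_prime_iff_eq hs (by norm_num)).1 hsd
      have hH18 : Has T X p f (2 * 9) := by
        rcases h.has_side (i := 9) (by omega) (by omega) (by omega) with h5 | h5
        · exact h5
        · exfalso
          have h6 := h.symm.ext_dvd hs hK hle (i := 9) (by omega) (by omega) (by omega) (by omega) h5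
          norm_num at h6
      refine h.stepB hP (by omega) hv hH (k := 16) (by omega) (by omega) hB fun s hs hd => ?_
      have h4 : Nat.gcd (2 * 10) 16 = 2 ^ 2 := by norm_num
      rw [h4] at hd
      rw [(Nat.prime_dvd_prime_iff_eq hs Nat.prime_two).1 (hs.dvd_of_dvd_pow hd)]
      exact h.no_two (by omega) hv hH (i := 9) (by omega) ⟨9, by omega⟩ hH18

theorem main10 (h : Ctx hI X Y p f 10) (hP : H659.CovCore.S5948Stmt.{v}) (hL0 : LP p f 20)
    (hL1 : LP p f 16) (hL2 : LP p f 14) : ∃ v, ResB hI X 10 v ∨ ResB hI Y 10 v := by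
  rcases h.big_side (i := 10) (by omega) le_rfl (by omega) hL0 with hB | hB
  · obtain ⟨v, hv⟩ := h.stepA hP (by omega) hB
    exact ⟨v, Or.inl (h.point_case10 hP hv hB.has hL1 hL2)⟩
  · obtain ⟨v, hv⟩ := h.symm.stepA hP (by omega) hB
    exact ⟨v, Or.inr (h.symm.point_case10 hP hv hB.has hL1 hL2)⟩

end Ctx

end Cfsg.Agent.H449.Reg
end
end

-- part: H964/Rg/Res
section
set_option linter.all false

/-!
# S3691: the residual cases of `PΩ^ε_{2m}(q)` (helper964)

* `ResV hI X v` : `X` fixes the nonsingular point `⟨v⟩` and contains the Siegel transformations supported by `v^⊥`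
  (these generate the commutator subgroup of the stabiliser of `v` in `Ω(Q)`; all characteristics): F-D-, F-D+1
* `ResP hI X P` : `X` fixes the anisotropic plane `P` and contains the Siegel transformations supported by `P^⊥`: F-D+2
-/

set_option autoImplicit false
set_option linter.unusedSectionVars false

namespace Cfsg.Agent.H964.Rg

open Module QuadraticMap Cfsg Cfsg.Geo Cfsg.Agent.LieClassical.OrthCore Cfsg.Agent.LieClassical.OrthTrans
  Cfsg.Agent.H454.Reg Cfsg.Agent.H884.El Cfsg.Agent.H955 Cfsg.Agent.H449.Reg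
open Cfsg.Agent.LieClassical.OrthFinite (glEquiv)
open scoped MatrixGroups Matrix

universe u v

variable {ι : Type} [Fintype ι] [DecidableEq ι] {F : Type v} [Field F] {Q : QuadraticForm F (ι → F)}
  {G : Type u} [Group G] {T : Subgroup G} [T.Normal] {hG : Good Q} {eT : T ≃* POmega F (⇑Q)}

/-- **the residual cases F-D- and F-D+1** -/
structure ResV (hI : Ind (eP hG eT)) (X : Subgroup G) (v : ι → F) : Prop where
  ne : Q v ≠ 0
  fix : ∀ x ∈ X, act hI x (F ∙ v) = F ∙ v
  sieg : ∀ (u w : ι → F) (hu : Q u = 0) (hw : polar Q u w = 0), polar Q u v = 0 → polar Q w v = 0 →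
    (glEquiv ι F).symm (siegel Q u w hu hw) ∈ preG eT X

/-- **the residual case F-D+2** -/
structure ResP (hI : Ind (eP hG eT)) (X : Subgroup G) (P : Submodule F (ι → F)) : Prop where
  rank : finrank F P = 2
  aniso : ∀ x ∈ P, Q x = 0 → x = 0
  fix : ∀ x ∈ X, act hI x P = P
  sieg : ∀ (u w : ι → F) (hu : Q u = 0) (hw : polar Q u w = 0), u ∈ perp Q P → w ∈ perp Q P →
    (glEquiv ι F).symm (siegel Q u w hu hw) ∈ preG eT X

end Cfsg.Agent.H964.Rg
end

-- part: H964/Rg/Ctx
section
prune_inst 0x2020446122000000188080110020004c0004b000630800c96208060908c163a0032f010ee002121352b0e11001c06001000099421000002a00b40040020120048332e6a12cb100000006808884000000000000000000000000000000000000000000000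
set_option linter.all false
open scoped Cfsg.Agent.FastGrp

/-!
# S3691, sections 6, 7: the context of `PΩ^ε_{2m}(q)` (helper964)

* `Cx hI X Y p f m N` : a factorization of a group with socle `PΩ(Q)`, `dim = 2 m`, `|F| = p ^ f`; the primes of even order
  `m < k ≤ N` have cyclic Sylow subgroups (`N = 2 m` for minus type, `N = 2 m - 2` for plus type)
* `Hs T X q k` : `|X ∩ T|` is divisible by a prime `r`, `ord_r(q) = k`, which does not divide `|Out T|`
-/

set_option autoImplicit false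
set_option linter.unusedSectionVars false

namespace Cfsg.Agent.H964.Rg

open Module QuadraticMap Cfsg Cfsg.Geo Cfsg.Agent.LieClassical.OrthCore Cfsg.Agent.LieClassical.OrthTrans
  Cfsg.Agent.H454.Reg Cfsg.Agent.H884.El Cfsg.Agent.H955 Cfsg.Agent.H954.TSing Cfsg.Agent.H193.Dg Cfsg.Agent.H851.Dg
  Cfsg.Agent.H449.Reg
open Cfsg.Agent.H951 (fx cm Inv)
open Cfsg.Agent.H278.Cov (Red Ext Num)
open Cfsg.Agent.LieClassical.OrthFinite (glEquiv glEquiv_apply)
open scoped MatrixGroups Matrix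

universe u v

variable {ι : Type} [Fintype ι] [DecidableEq ι] {F : Type v} [Field F] [Fintype F] {Q : QuadraticForm F (ι → F)}
variable {G : Type u} [Group G] [Finite G] {T : Subgroup G} [T.Normal] {hG : Good Q} {eT : T ≃* POmega F (⇑Q)}
  {hI : Ind ((eP hG eT :))} {X Y : Subgroup G} {p f m N : ℕ}

/-- a factorization of a group with socle `PΩ(Q)`, `dim = 2 m` -/
structure Cx (hI : Ind ((eP hG eT :))) (X Y : Subgroup G) (p f m N : ℕ) : Prop where
  fac : Fac T X Y
  prime : p.Prime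
  pos : 1 ≤ f
  card : Nat.card F = p ^ f
  dim : Fintype.card ι = 2 * m
  data : H390.Lift.Data Q
  le : N ≤ 2 * m
  dvd : ∀ k r a, Even k → 3 ≤ k → m < k → k ≤ N → PP p (f * k) r → r ^ a ∣ (p ^ f) ^ k - 1 → r ^ a ∣ Nat.card T
  out : ∀ k r, 3 ≤ k → PP p (f * k) r → ¬ r ∣ Nat.card (Cfsg.Out T)

namespace Cx

theorem symm (h : Cx hI X Y p f m N) : Cx hI Y X p f m N :=
  ⟨h.fac.symm, h.prime, h.pos, h.card, h.dim, h.data, h.le, h.dvd, h.out⟩

theorem fcard (h : Cx hI X Y p f m N) : Fintype.card F = p ^ f := by rw [← Nat.card_eq_fintype_card]; exact h.card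

theorem finrank_V (h : Cx hI X Y p f m N) : finrank F (ι → F) = 2 * m := by
  rw [Module.finrank_fintype_fun_eq_card, h.dim]

theorem pp (h : Cx hI X Y p f m N) {k r : ℕ} (hr : PP p (f * k) r) : PP (Nat.card F) k r := by
  rw [h.card]; exact hr.of_pow h.pos

/-- the Sylow subgroups for large primitive primes are cyclic -/
theorem cyc (h : Cx hI X Y p f m N) {k r : ℕ} (hr : PP (Nat.card F) k r) (hk : 2 ≤ k) (hmk : m < k)
    (P : Subgroup T) (hP : IsPGroup r P) : IsCyclic P := by
  have h1 : CycP r (⊤ : Subgroup (POmega F (⇑Q))) := cycP_of hr hk (fun g _ hgr hg1 =>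
    (elt_data hr hk (by rw [h.dim]; omega) (by rw [← H251.GeoCard.toLin_pow, hgr]; exact lin_one)
      (lin_ne_one hg1)).2.1)
  let φ : T →* (⊤ : Subgroup (POmega F (⇑Q))) := (Subgroup.topEquiv.symm : POmega F (⇑Q) ≃* _).toMonoidHom.comp eT.toMonoidHom
  have hφ : Function.Injective φ := Subgroup.topEquiv.symm.injective.comp eT.injective
  have h2 := h1 (P.map φ) (hP.map φ)
  exact isCyclic_of_surjective (P.equivMapOfInjective φ hφ).symm.toMonoidHom (MulEquiv.surjective _)

/-- no prime of order `k > m` divides both orders -/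
theorem not_both (h : Cx hI X Y p f m N) {k r : ℕ} (hr : PP (Nat.card F) k r) (hk : 2 ≤ k) (hmk : m < k)
    (hX : r ∣ Nat.card (X.subgroupOf T)) (hY : r ∣ Nat.card (Y.subgroupOf T)) : False :=
  h.fac.not_both hr.prime (h.cyc hr hk hmk) hX hY

/-- a large primitive prime of even order lies in one of the factors with its full power -/
theorem side (h : Cx hI X Y p f m N) {k r : ℕ} (he : Even k) (hk : 3 ≤ k) (hmk : m < k) (hkN : k ≤ N)
    (hr : PP p (f * k) r) :
    (∀ a, r ^ a ∣ (p ^ f) ^ k - 1 → r ^ a ∣ Nat.card (X.subgroupOf T)) ∨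
      (∀ a, r ^ a ∣ (p ^ f) ^ k - 1 → r ^ a ∣ Nat.card (Y.subgroupOf T)) := by
  have hfT : Finite T := inferInstance
  have hX0 : Nat.card (X.subgroupOf T) ≠ 0 := Nat.card_pos.ne'
  have hY0 : Nat.card (Y.subgroupOf T) ≠ 0 := Nat.card_pos.ne'
  have hT0 : Nat.card T ≠ 0 := Nat.card_pos.ne'
  have hv := h.fac.val_eq (h.out _ r hk hr)
  by_cases hX : r ∣ Nat.card (X.subgroupOf T)
  · left
    have hY : ¬ r ∣ Nat.card (Y.subgroupOf T) := fun hY => h.not_both (h.pp hr) (by omega) hmk hX hY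
    rw [Nat.factorization_eq_zero_of_not_dvd hY, add_zero] at hv
    intro a ha
    have h1 := h.dvd k r a he hk hmk hkN hr ha
    rw [hr.prime.pow_dvd_iff_le_factorization hT0] at h1
    rw [hr.prime.pow_dvd_iff_le_factorization hX0, hv]
    exact h1
  · right
    rw [Nat.factorization_eq_zero_of_not_dvd hX, zero_add] at hv
    intro a ha
    have h1 := h.dvd k r a he hk hmk hkN hr ha
    rw [hr.prime.pow_dvd_iff_le_factorization hT0] at h1
    rw [hr.prime.pow_dvd_iff_le_factorization hY0, hv]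
    exact h1

theorem big_side (h : Cx hI X Y p f m N) {k : ℕ} (he : Even k) (hk : 3 ≤ k) (hmk : m < k) (hkN : k ≤ N)
    (hL : LP p f k) : Big T X p f k ∨ Big T Y p f k := by
  obtain ⟨r, a, hr, hb, hd⟩ := hL
  rcases h.side he hk hmk hkN hr with h1 | h1
  · exact Or.inl ⟨r, a, hr, hb, hd, h1 a hd⟩
  · exact Or.inr ⟨r, a, hr, hb, hd, h1 a hd⟩

theorem elt (h : Cx hI X Y p f m N) {k r a : ℕ} (hr : PP p (f * k) r) (hk : 2 ≤ k) (hmk : m < k)
    (hd : r ^ a ∣ Nat.card (X.subgroupOf T)) : ∃ g ∈ preG eT X, orderOf g = r ^ a := by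
  have h1 := hr.lt (by have := Nat.mul_le_mul h.pos hk; omega)
  have h2 := Nat.mul_le_mul h.pos hk
  exact exists_pow h.data hr.prime (by omega) (h.cyc (h.pp hr) hk hmk) hd

/-- **the list lemma** for a factor containing a large power of a primitive prime -/
theorem list (h : Cx hI X Y p f m N) (hP : H659.CovCore.S5948Stmt.{v}) (hm : 5 ≤ m) {k : ℕ} (hk : k ≤ 2 * m)
    (hmk : m < k) (hB : Big T X p f k) : Red (preG eT X) ∨ _root_.Cfsg.Agent.H278.Cov.Ext (Nat.gcd (2 * m) k) (preG eT X) := by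
  obtain ⟨r, a, hr, hb, hd, hdX⟩ := hB
  obtain ⟨g, hg, ho⟩ := h.elt hr (by omega) hmk hdX
  have hnum := num_of h.prime h.pos hr (n := 2 * m) (by omega) (by omega) (by omega) hb hd
  rcases og_iso hP (k := k) (H884.OddForm.isNondegenerate_of_nondeg _ hG.nondeg) (H := preG eT X)
    (fun x hx => LieClassical.OrthFinite.mem_isometryGroup_iff.1 (preG_le hx)) hg (by rw [h.dim, ho, h.fcard]; exact hnum)
    with h1 | h1 | h1
  · exact Or.inl h1
  · right
    rw [h.dim] at h1
    exact h1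
  · exact absurd h1 (not_omega_le h.fac.not_le_left)

end Cx

end Cfsg.Agent.H964.Rg
end
end
end
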